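import Cfsg.Agent.O83.Model

set_option autoImplicit false
set_option Elab.async false
set_option maxRecDepth 4096

namespace Cfsg.Agent.O83

open Cfsg.Agent.Comp

theorem tr14 : CT.ClW e ns LL reps [2, 18, 20, 22, 24, 26, 28, 30, 32] [7] :=
  CT.clW_of mo hE hqs (t := (.br (.br (.br (.mg [3] []
 (.br (.mg [19] []
 (.mg [20] []
 (.mg [24] []
 (.br (.lf 0 [56, 7, 55, 52, 38, 79, 52, 65, 60, 60, 70, 77, 82]) (.lf 3 [38, 46, 2, 43, 61, 38, 69, 56, 68, 64, 71, 81]) (.lf 4 [44, 10, 3, 81, 42, 63, 56, 71, 62, 82, 70, 81]))))) (.mg [19] []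
 (.mg [20] []
 (.mg [6] []
 (.mg [22] []
 (.lf 7 [6, 55, 11, 54, 41, 56, 54, 76, 60, 72, 77, 82]))))) (.mg [19] []
 (.mg [20] []
 (.mg [7] []
 (.mg [23] []
 (.lf 7 [38, 6, 43, 56, 40, 64, 53, 77, 67, 72]))))))) (.mg [3] []
 (.mg [0] []
 (.mg [19] [33]
 (.mg [6] []
 (.mg [24] []
 (.mg [27] []
 (.lf 7 [5, 65, 4, 52, 40, 67, 50, 63, 68, 71, 81]))))))) (.mg [3] []
 (.mg [1] []
 (.mg [19] [32]
 (.mg [7] []
 (.mg [24] []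
 (.mg [26] []
 (.lf 7 [52, 12, 67, 40, 65, 50, 78, 65, 60, 73, 71, 82])))))))) (.br (.mg [3] []
 (.mg [5] []
 (.mg [7] []
 (.mg [20] [32]
 (.mg [24] []
 (.mg [28] []
 (.lf 7 [48, 6, 5, 55, 47, 70, 58, 66, 72, 72, 80]))))))) (.mg [3] []
 (.mg [0] []
 (.mg [19] [33]
 (.mg [20] [32]
 (.mg [24] []
 (.mg [27] []
 (.nt 50))))))) (.mg [3] []
 (.mg [1] []
 (.mg [19] [32]
 (.mg [20] [32]
 (.mg [24] []
 (.mg [26] []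
 (.nt 50)))))))) (.br (.mg [3] []
 (.mg [4] []
 (.mg [6] []
 (.mg [20] [33]
 (.mg [24] []
 (.mg [29] []
 (.lf 7 [49, 14, 81, 43, 58, 79, 63, 79, 70, 79]))))))) (.mg [3] []
 (.mg [0] []
 (.mg [19] [33]
 (.mg [20] [33]
 (.mg [24] []
 (.mg [27] []
 (.nt 50))))))) (.mg [3] []
 (.mg [1] []
 (.mg [19] [32]
 (.mg [20] [33]
 (.mg [24] []
 (.mg [26] []
 (.nt 50))))))))) (.mg [0] []
 (.mg [5] []
 (.mg [7] []
 (.br (.mg [19] []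
 (.mg [20] []
 (.mg [24] [33]
 (.mg [31] []
 (.lf 7 [4, 52, 3, 72, 43, 73, 55, 70, 63, 85, 70, 79]))))) (.mg [19] []
 (.mg [20] []
 (.mg [24] [33]
 (.mg [22] []
 (.nt 50))))) (.mg [19] []
 (.mg [20] []
 (.mg [24] [33]
 (.mg [23] []
 (.nt 50))))))))) (.mg [1] []
 (.mg [4] []
 (.mg [6] []
 (.br (.mg [19] []
 (.mg [20] []
 (.mg [24] [32]
 (.mg [30] []
 (.lf 7 [42, 7, 39, 76, 40, 78, 51, 63, 76, 60, 72, 79]))))) (.mg [19] []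
 (.mg [20] []
 (.mg [24] [32]
 (.mg [22] []
 (.nt 50))))) (.mg [19] []
 (.mg [20] []
 (.mg [24] [32]
 (.mg [23] []
 (.nt 50))))))))))) (by decide +kernel)

theorem tr15 : CT.ClW e ns LL reps [2, 18, 20, 22, 24, 26, 28, 30, 32] [4] :=
  CT.clW_of mo hE hqs (t := (.br (.br (.mg [2] []
 (.br (.mg [18] []
 (.br (.mg [23] []
 (.mg [27] []
 (.br (.lf 0 [10, 4, 2, 59, 62, 69, 61, 85, 70]) (.lf 6 [11, 51, 10, 72, 39, 39, 51, 51, 64, 76, 60, 71, 72, 84]) (.lf 5 [48, 6, 5, 58, 50, 38, 59, 73, 66, 79, 76, 80])))) (.mg [23] []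
 (.mg [4] []
 (.mg [20] []
 (.lf 7 [40, 10, 2, 42, 41, 39, 51, 54, 66, 60, 77, 80])))) (.mg [23] []
 (.mg [5] []
 (.mg [21] []
 (.lf 7 [10, 67, 2, 76, 47, 78, 59, 71, 61, 79, 70, 79])))))) (.mg [18] [33]
 (.mg [0] []
 (.mg [4] []
 (.mg [27] []
 (.mg [25] []
 (.lf 7 [41, 4, 50, 46, 73, 55, 70, 60, 70, 77, 79])))))) (.mg [18] [32]
 (.mg [1] []
 (.mg [5] []
 (.mg [27] []
 (.mg [24] []
 (.lf 7 [41, 11, 2, 63, 48, 38, 57, 72, 62, 84, 70, 84])))))))) (.mg [2] []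
 (.br (.mg [5] []
 (.mg [7] []
 (.mg [23] [32]
 (.mg [27] []
 (.mg [28] []
 (.lf 7 [4, 56, 6, 2, 40, 51, 51, 71, 69])))))) (.mg [18] [33]
 (.mg [0] []
 (.mg [23] [32]
 (.mg [27] []
 (.mg [25] []
 (.nt 50)))))) (.mg [18] [32]
 (.mg [1] []
 (.mg [23] [32]
 (.mg [27] []
 (.mg [24] []
 (.nt 50)))))))) (.mg [2] []
 (.br (.mg [4] []
 (.mg [6] []
 (.mg [23] [33]
 (.mg [27] []
 (.mg [29] []
 (.lf 7 [41, 11, 2, 62, 45, 78, 56, 77, 67, 73, 83])))))) (.mg [18] [33]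
 (.mg [0] []
 (.mg [23] [33]
 (.mg [27] []
 (.mg [25] []
 (.nt 50)))))) (.mg [18] [32]
 (.mg [1] []
 (.mg [23] [33]
 (.mg [27] []
 (.mg [24] []
 (.nt 50))))))))) (.mg [0] []
 (.mg [5] []
 (.mg [7] []
 (.mg [18] []
 (.br (.mg [23] []
 (.mg [27] [33]
 (.mg [31] []
 (.lf 7 [70, 10, 2, 81, 44, 68, 53, 69, 60, 85])))) (.mg [23] []
 (.mg [27] [33]
 (.mg [20] []
 (.nt 50)))) (.mg [23] []
 (.mg [27] [33]
 (.mg [21] []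
 (.nt 50))))))))) (.mg [1] []
 (.mg [4] []
 (.mg [6] []
 (.mg [18] []
 (.br (.mg [23] []
 (.mg [27] [32]
 (.mg [30] []
 (.lf 7 [10, 51, 3, 60, 43, 38, 50, 54, 64, 77, 70, 84])))) (.mg [23] []
 (.mg [27] [32]
 (.mg [20] []
 (.nt 50)))) (.mg [23] []
 (.mg [27] [32]
 (.mg [21] []
 (.nt 50))))))))))) (by decide +kernel)

theorem tr16 : CT.ClW e ns LL reps [2, 18, 20, 22, 24, 26, 28, 30, 32] [4, 6] :=
  CT.clW_of mo hE hqs (t := (.br (.br (.mg [2] [22, 29]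
 (.br (.mg [18] [26, 31]
 (.br (.mg [21] []
 (.mg [25] []
 (.br (.lf 2 [7, 45, 2, 52, 38, 73, 56, 68, 64, 84, 70, 80]) (.lf 11 [57, 11, 77, 38, 70, 59, 60, 65, 62, 76, 73, 79]) (.lf 10 [14, 52, 2, 40, 48, 69, 54, 71, 60, 63, 71])))) (.mg [23] []
 (.mg [4] []
 (.mg [20, 23] []
 (.lf 7 [9, 10, 75, 41, 71, 68, 60, 79, 76, 80])))) (.mg [23] []
 (.mg [5] []
 (.mg [21, 22] []
 (.lf 7 [58, 7, 2, 75, 42, 38, 59, 56, 78, 66, 76, 71])))))) (.mg [18] [26, 31, 33]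
 (.mg [0] []
 (.mg [4] []
 (.mg [27] []
 (.mg [25, 26] []
 (.lf 7 [76, 42, 2, 50, 48, 62, 50, 63, 68, 60, 76, 73, 81])))))) (.mg [18] [26, 31, 32]
 (.mg [1] []
 (.mg [5] []
 (.mg [27] []
 (.mg [24, 27] []
 (.lf 7 [43, 77, 2, 73, 48, 81, 53, 60, 63, 85, 70, 82])))))))) (.mg [2] [22, 29, 33]
 (.br (.mg [5] []
 (.mg [7] []
 (.mg [21] [32]
 (.mg [25] []
 (.nt 22))))) (.mg [5] [29, 33]
 (.mg [0] []
 (.mg [21] [32]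
 (.mg [27] []
 (.nt 22))))) (.mg [5] [28, 32]
 (.mg [1] []
 (.mg [21] [32]
 (.mg [27] []
 (.nt 22))))))) (.mg [2] [22, 29, 32]
 (.br (.mg [4] []
 (.mg [6] []
 (.mg [21] [33]
 (.mg [25] []
 (.nt 22))))) (.mg [4] [28, 33]
 (.mg [0] []
 (.mg [21] [33]
 (.mg [27] []
 (.nt 22))))) (.mg [4] [29, 32]
 (.mg [1] []
 (.mg [21] [33]
 (.mg [27] []
 (.nt 22)))))))) (.mg [0] []
 (.mg [5] []
 (.mg [7] []
 (.mg [18] [26, 31, 32]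
 (.br (.mg [21] []
 (.nt 1129)) (.mg [23] []
 (.nt 1129)) (.mg [23] []
 (.nt 1129))))))) (.mg [1] []
 (.mg [4] []
 (.mg [6] []
 (.mg [18] [26, 31, 33]
 (.br (.mg [21] []
 (.nt 1129)) (.mg [23] []
 (.nt 1129)) (.mg [23] []
 (.nt 1129))))))))) (by decide +kernel)

theorem tr17 : CT.ClW e ns LL reps [2, 18, 20, 22, 24, 26, 28, 30, 32] [4, 7] :=
  CT.clW_of mo hE hqs (t := (.br (.br (.mg [2] [23, 28]
 (.br (.mg [18] [27, 30]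
 (.br (.mg [20] []
 (.mg [24] []
 (.br (.lf 1 [44, 56, 2, 81, 43, 50, 50, 63, 70, 60, 84, 70]) (.lf 8 [64, 14, 4, 57, 41, 85, 50, 75, 60, 85, 70, 85]) (.lf 9 [49, 7, 2, 41, 43, 52, 54, 69, 60, 71, 78])))) (.mg [23] []
 (.mg [4] []
 (.mg [20, 22] []
 (.lf 7 [64, 11, 2, 42, 41, 39, 69, 51, 61, 71, 85])))) (.mg [23] []
 (.mg [5] []
 (.mg [21, 23] []
 (.lf 7 [7, 58, 3, 78, 40, 69, 50, 70, 63, 71, 84])))))) (.mg [18] [27, 30, 33]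
 (.mg [0] []
 (.mg [4] []
 (.mg [27] []
 (.mg [25, 27] []
 (.lf 7 [8, 10, 2, 76, 38, 80, 56, 68, 63, 85, 70])))))) (.mg [18] [27, 30, 32]
 (.mg [1] []
 (.mg [5] []
 (.mg [27] []
 (.mg [24, 26] []
 (.lf 7 [3, 44, 2, 40, 59, 38, 58, 70, 66, 73, 79])))))))) (.mg [2] [23, 28, 32]
 (.br (.mg [5] []
 (.mg [7] []
 (.mg [20] [32]
 (.mg [24] []
 (.nt 22))))) (.mg [5] [29, 33]
 (.mg [0] []
 (.mg [20] [32]
 (.mg [27] []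
 (.nt 22))))) (.mg [5] [28, 32]
 (.mg [1] []
 (.mg [20] [32]
 (.mg [27] []
 (.nt 22))))))) (.mg [2] [23, 28, 33]
 (.br (.mg [4] []
 (.mg [6] []
 (.mg [20] [33]
 (.mg [24] []
 (.nt 22))))) (.mg [4] [28, 33]
 (.mg [0] []
 (.mg [20] [33]
 (.mg [27] []
 (.nt 22))))) (.mg [4] [29, 32]
 (.mg [1] []
 (.mg [20] [33]
 (.mg [27] []
 (.nt 22)))))))) (.mg [0] []
 (.mg [5] []
 (.mg [7] []
 (.mg [18] [27, 30, 33]
 (.br (.mg [20] []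
 (.nt 1129)) (.mg [23] []
 (.nt 1129)) (.mg [23] []
 (.nt 1129))))))) (.mg [1] []
 (.mg [4] []
 (.mg [6] []
 (.mg [18] [27, 30, 32]
 (.br (.mg [20] []
 (.nt 1129)) (.mg [23] []
 (.nt 1129)) (.mg [23] []
 (.nt 1129))))))))) (by decide +kernel)

theorem tr18 : CT.ClW e ns LL reps [2, 18, 20, 22, 24, 26, 28, 30, 32] [5] :=
  CT.clW_of mo hE hqs (t := (.br (.br (.mg [3] []
 (.br (.mg [19] []
 (.br (.mg [22] []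
 (.mg [26] []
 (.br (.lf 0 [51, 40, 2, 78, 48, 52, 55, 61, 73, 70, 78]) (.lf 5 [63, 7, 4, 60, 45, 50, 50, 72, 67, 72, 70, 84]) (.lf 6 [49, 42, 2, 38, 41, 80, 56, 83, 62, 79, 76])))) (.mg [22] []
 (.mg [4] []
 (.mg [20] []
 (.lf 7 [68, 6, 49, 38, 38, 62, 50, 83, 60, 84])))) (.mg [22] []
 (.mg [5] []
 (.mg [21] []
 (.lf 7 [11, 45, 3, 85, 43, 38, 56, 50, 68, 66, 77, 77, 79])))))) (.mg [19] [33]
 (.mg [0] []
 (.mg [4] []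
 (.mg [26] []
 (.mg [25] []
 (.lf 7 [2, 73, 2, 39, 81, 56, 70, 66, 72, 72, 78])))))) (.mg [19] [32]
 (.mg [1] []
 (.mg [5] []
 (.mg [26] []
 (.mg [24] []
 (.lf 7 [70, 12, 54, 47, 55, 52, 62, 60, 70, 82])))))))) (.mg [3] []
 (.br (.mg [5] []
 (.mg [7] []
 (.mg [22] [32]
 (.mg [26] []
 (.mg [28] []
 (.lf 7 [64, 2, 66, 54, 40, 64, 50, 77, 69, 72, 72, 83])))))) (.mg [19] [33]
 (.mg [0] []
 (.mg [22] [32]
 (.mg [26] []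
 (.mg [25] []
 (.nt 50)))))) (.mg [19] [32]
 (.mg [1] []
 (.mg [22] [32]
 (.mg [26] []
 (.mg [24] []
 (.nt 50)))))))) (.mg [3] []
 (.br (.mg [4] []
 (.mg [6] []
 (.mg [22] [33]
 (.mg [26] []
 (.mg [29] []
 (.lf 7 [11, 3, 49, 40, 82, 50, 80, 60, 60, 73])))))) (.mg [19] [33]
 (.mg [0] []
 (.mg [22] [33]
 (.mg [26] []
 (.mg [25] []
 (.nt 50)))))) (.mg [19] [32]
 (.mg [1] []
 (.mg [22] [33]
 (.mg [26] []
 (.mg [24] []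
 (.nt 50))))))))) (.mg [0] []
 (.mg [5] []
 (.mg [7] []
 (.mg [19] []
 (.br (.mg [22] []
 (.mg [26] [33]
 (.mg [31] []
 (.lf 7 [57, 2, 44, 41, 69, 55, 63, 61, 71, 76, 85])))) (.mg [22] []
 (.mg [26] [33]
 (.mg [20] []
 (.nt 50)))) (.mg [22] []
 (.mg [26] [33]
 (.mg [21] []
 (.nt 50))))))))) (.mg [1] []
 (.mg [4] []
 (.mg [6] []
 (.mg [19] []
 (.br (.mg [22] []
 (.mg [26] [32]
 (.mg [30] []
 (.lf 7 [6, 53, 3, 48, 64, 50, 65, 67, 70, 82])))) (.mg [22] []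
 (.mg [26] [32]
 (.mg [20] []
 (.nt 50)))) (.mg [22] []
 (.mg [26] [32]
 (.mg [21] []
 (.nt 50))))))))))) (by decide +kernel)

theorem tr19 : CT.ClW e ns LL reps [2, 18, 20, 22, 24, 26, 28, 30, 32] [5, 6] :=
  CT.clW_of mo hE hqs (t := (.br (.br (.mg [3] [23, 29]
 (.br (.mg [19] [27, 31]
 (.br (.mg [21] []
 (.mg [25] []
 (.br (.lf 1 [43, 12, 57, 45, 58, 52, 64, 67, 70, 85]) (.lf 9 [11, 42, 5, 47, 44, 38, 62, 51, 61, 76, 80]) (.lf 8 [43, 45, 2, 64, 45, 38, 50, 56, 77, 60, 77, 77])))) (.mg [22] []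
 (.mg [4] []
 (.mg [20, 22] []
 (.lf 7 [2, 42, 3, 52, 45, 55, 70, 65, 60, 72, 84])))) (.mg [22] []
 (.mg [5] []
 (.mg [21, 23] []
 (.lf 7 [5, 50, 3, 44, 42, 61, 51, 64, 66, 61, 72, 80])))))) (.mg [19] [27, 31, 33]
 (.mg [0] []
 (.mg [4] []
 (.mg [26] []
 (.mg [25, 27] []
 (.lf 7 [65, 7, 4, 46, 52, 38, 64, 53, 66, 66, 71, 76])))))) (.mg [19] [27, 31, 32]
 (.mg [1] []
 (.mg [5] []
 (.mg [26] []
 (.mg [24, 26] []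
 (.lf 7 [2, 59, 2, 54, 47, 61, 51, 61, 63, 60, 72, 77, 81])))))))) (.mg [3] [23, 29, 33]
 (.br (.mg [5] []
 (.mg [7] []
 (.mg [21] [32]
 (.mg [25] []
 (.nt 22))))) (.mg [5] [29, 33]
 (.mg [0] []
 (.mg [21] [32]
 (.mg [26] []
 (.nt 22))))) (.mg [5] [28, 32]
 (.mg [1] []
 (.mg [21] [32]
 (.mg [26] []
 (.nt 22))))))) (.mg [3] [23, 29, 32]
 (.br (.mg [4] []
 (.mg [6] []
 (.mg [21] [33]
 (.mg [25] []
 (.nt 22))))) (.mg [4] [28, 33]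
 (.mg [0] []
 (.mg [21] [33]
 (.mg [26] []
 (.nt 22))))) (.mg [4] [29, 32]
 (.mg [1] []
 (.mg [21] [33]
 (.mg [26] []
 (.nt 22)))))))) (.mg [0] []
 (.mg [5] []
 (.mg [7] []
 (.mg [19] [27, 31, 32]
 (.br (.mg [21] []
 (.nt 1129)) (.mg [22] []
 (.nt 1129)) (.mg [22] []
 (.nt 1129))))))) (.mg [1] []
 (.mg [4] []
 (.mg [6] []
 (.mg [19] [27, 31, 33]
 (.br (.mg [21] []
 (.nt 1129)) (.mg [22] []
 (.nt 1129)) (.mg [22] []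
 (.nt 1129))))))))) (by decide +kernel)

theorem tr20 : CT.ClW e ns LL reps [2, 18, 20, 22, 24, 26, 28, 30, 32] [5, 7] :=
  CT.clW_of mo hE hqs (t := (.br (.br (.mg [3] [22, 28]
 (.br (.mg [19] [26, 30]
 (.br (.mg [20] []
 (.mg [24] []
 (.br (.lf 2 [52, 5, 68, 52, 38, 75, 53, 60, 63, 77, 73, 83]) (.lf 10 [53, 1, 2, 53, 40, 51, 51, 66, 71, 72, 80]) (.lf 11 [62, 2, 10, 52, 50, 68, 60, 78, 73, 70, 81])))) (.mg [22] []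
 (.mg [4] []
 (.mg [20, 23] []
 (.lf 7 [58, 5, 2, 40, 40, 38, 55, 50, 66, 64, 73, 70, 84])))) (.mg [22] []
 (.mg [5] []
 (.mg [21, 22] []
 (.lf 7 [6, 58, 7, 2, 68, 40, 61, 51, 64, 70, 60, 72])))))) (.mg [19] [26, 30, 33]
 (.mg [0] []
 (.mg [4] []
 (.mg [26] []
 (.mg [25, 26] []
 (.lf 7 [11, 42, 5, 61, 40, 50, 61, 67, 77, 73, 78])))))) (.mg [19] [26, 30, 32]
 (.mg [1] []
 (.mg [5] []
 (.mg [26] []
 (.mg [24, 27] []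
 (.lf 7 [55, 5, 2, 39, 40, 61, 54, 50, 83, 62, 76, 71, 78])))))))) (.mg [3] [22, 28, 32]
 (.br (.mg [5] []
 (.mg [7] []
 (.mg [20] [32]
 (.mg [24] []
 (.nt 22))))) (.mg [5] [29, 33]
 (.mg [0] []
 (.mg [20] [32]
 (.mg [26] []
 (.nt 22))))) (.mg [5] [28, 32]
 (.mg [1] []
 (.mg [20] [32]
 (.mg [26] []
 (.nt 22))))))) (.mg [3] [22, 28, 33]
 (.br (.mg [4] []
 (.mg [6] []
 (.mg [20] [33]
 (.mg [24] []
 (.nt 22))))) (.mg [4] [28, 33]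
 (.mg [0] []
 (.mg [20] [33]
 (.mg [26] []
 (.nt 22))))) (.mg [4] [29, 32]
 (.mg [1] []
 (.mg [20] [33]
 (.mg [26] []
 (.nt 22)))))))) (.mg [0] []
 (.mg [5] []
 (.mg [7] []
 (.mg [19] [26, 30, 33]
 (.br (.mg [20] []
 (.nt 1129)) (.mg [22] []
 (.nt 1129)) (.mg [22] []
 (.nt 1129))))))) (.mg [1] []
 (.mg [4] []
 (.mg [6] []
 (.mg [19] [26, 30, 32]
 (.br (.mg [20] []
 (.nt 1129)) (.mg [22] []
 (.nt 1129)) (.mg [22] []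
 (.nt 1129))))))))) (by decide +kernel)

theorem tr21 : CT.ClW e ns LL reps [2, 18, 20, 22, 24, 26, 28, 30, 32] [0] :=
  CT.clW_of mo hE hqs (t := (.br (.mg [3] []
 (.br (.br (.mg [21] []
 (.mg [23] []
 (.br (.mg [29] []
 (.br (.lf 0 [6, 60, 2, 62, 44, 75, 53, 67, 72, 77, 78]) (.lf 2 [74, 7, 4, 62, 47, 78, 59, 63, 70, 60, 72, 83]) (.lf 1 [75, 12, 66, 38, 38, 64, 52, 60, 77, 73]))) (.mg [0] []
 (.mg [19] []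
 (.lf 7 [47, 6, 5, 40, 39, 58, 52, 78, 62, 71, 83]))) (.mg [1] []
 (.mg [18] []
 (.lf 7 [38, 14, 4, 59, 39, 81, 50, 78, 60, 72])))))) (.mg [21] [33]
 (.mg [0] []
 (.mg [4] []
 (.mg [29] []
 (.mg [25] []
 (.lf 7 [47, 11, 3, 79, 43, 65, 56, 71, 64, 85, 70, 81])))))) (.mg [21] [32]
 (.mg [1] []
 (.mg [5] []
 (.mg [29] []
 (.mg [24] []
 (.lf 7 [80, 7, 5, 56, 39, 82, 52, 70, 63, 76, 73, 78]))))))) (.br (.mg [0] []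
 (.mg [23] [33]
 (.mg [6] []
 (.mg [29] []
 (.mg [27] []
 (.lf 7 [55, 2, 64, 41, 64, 53, 62, 61, 73, 71, 81])))))) (.mg [21] [33]
 (.mg [23] [33]
 (.mg [4] []
 (.mg [29] []
 (.mg [25] []
 (.nt 50)))))) (.mg [21] [32]
 (.mg [23] [33]
 (.mg [5] []
 (.mg [29] []
 (.mg [24] []
 (.nt 50))))))) (.br (.mg [1] []
 (.mg [23] [32]
 (.mg [7] []
 (.mg [29] []
 (.mg [26] []
 (.lf 7 [78, 10, 3, 51, 44, 73, 56, 77, 60, 71, 76, 81])))))) (.mg [21] [33]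
 (.mg [23] [32]
 (.mg [4] []
 (.mg [29] []
 (.mg [25] []
 (.nt 50)))))) (.mg [21] [32]
 (.mg [23] [32]
 (.mg [5] []
 (.mg [29] []
 (.mg [24] []
 (.nt 50))))))))) (.mg [0] []
 (.mg [5] []
 (.mg [7] []
 (.mg [21] []
 (.mg [23] []
 (.br (.mg [29] [33]
 (.mg [31] []
 (.lf 7 [14, 49, 4, 68, 48, 38, 53, 53, 60, 63, 84]))) (.mg [29] [33]
 (.mg [19] []
 (.nt 50))) (.mg [29] [33]
 (.mg [18] []
 (.nt 50))))))))) (.mg [1] []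
 (.mg [4] []
 (.mg [6] []
 (.mg [21] []
 (.mg [23] []
 (.br (.mg [29] [32]
 (.mg [30] []
 (.lf 7 [5, 73, 2, 72, 47, 78, 59, 66, 60, 85, 70, 79]))) (.mg [29] [32]
 (.mg [19] []
 (.nt 50))) (.mg [29] [32]
 (.mg [18] []
 (.nt 50))))))))))) (by decide +kernel)

theorem tr22 : CT.ClW e ns LL reps [2, 18, 20, 22, 24, 26, 28, 30, 32] [0, 6] :=
  CT.clW_of mo hE hqs (t := (.br (.mg [3] [23, 26]
 (.br (.br (.mg [21] [28, 31]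
 (.mg [18] []
 (.br (.mg [25] []
 (.br (.lf 6 [5, 43, 2, 41, 42, 38, 70, 58, 77, 67, 76, 73]) (.lf 11 [79, 10, 2, 76, 40, 70, 66, 60, 84]) (.lf 8 [59, 5, 64, 38, 74, 55, 69, 61, 77, 70, 80]))) (.mg [0] []
 (.mg [19, 23] []
 (.lf 7 [5, 52, 5, 61, 42, 38, 69, 53, 68, 60, 76, 84]))) (.mg [1] []
 (.mg [18, 22] []
 (.lf 7 [68, 2, 83, 46, 70, 58, 74, 60, 73, 71, 79])))))) (.mg [21] [28, 31, 33]
 (.mg [0] []
 (.mg [4] []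
 (.mg [29] []
 (.mg [25, 28] []
 (.lf 7 [65, 12, 6, 58, 48, 54, 52, 62, 68, 60, 76])))))) (.mg [21] [28, 31, 32]
 (.mg [1] []
 (.mg [5] []
 (.mg [29] []
 (.mg [24, 29] []
 (.lf 7 [80, 4, 72, 48, 85, 56, 71, 66, 76, 73, 83]))))))) (.br (.mg [0] []
 (.mg [18] [33]
 (.mg [6] []
 (.mg [25] []
 (.nt 22))))) (.mg [0] [26, 33]
 (.mg [18] [33]
 (.mg [4] []
 (.mg [29] []
 (.nt 22))))) (.mg [0] [27, 32]
 (.mg [18] [33]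
 (.mg [5] []
 (.mg [29] []
 (.nt 22)))))) (.br (.mg [1] []
 (.mg [18] [32]
 (.mg [7] []
 (.mg [25] []
 (.nt 22))))) (.mg [1] [27, 33]
 (.mg [18] [32]
 (.mg [4] []
 (.mg [29] []
 (.nt 22))))) (.mg [1] [26, 32]
 (.mg [18] [32]
 (.mg [5] []
 (.mg [29] []
 (.nt 22)))))))) (.mg [0] []
 (.mg [5] []
 (.mg [7] []
 (.mg [21] [28, 31, 32]
 (.mg [18] []
 (.nt 9)))))) (.mg [1] []
 (.mg [4] []
 (.mg [6] []
 (.mg [21] [28, 31, 33]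
 (.mg [18] []
 (.nt 9)))))))) (by decide +kernel)

theorem tr23 : CT.ClW e ns LL reps [2, 18, 20, 22, 24, 26, 28, 30, 32] [0, 7] :=
  CT.clW_of mo hE hqs (t := (.br (.mg [3] [22, 27]
 (.br (.br (.mg [21] [29, 30]
 (.mg [19] []
 (.br (.mg [24] []
 (.br (.lf 5 [48, 7, 46, 39, 62, 55, 50, 60, 66, 71, 72, 82]) (.lf 10 [10, 40, 2, 65, 47, 78, 59, 76, 63, 73, 70, 84]) (.lf 9 [6, 2, 46, 70, 58, 67, 61, 78, 73, 70, 82]))) (.mg [0] []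
 (.mg [19, 22] []
 (.lf 7 [11, 4, 68, 41, 72, 66, 60, 77, 77, 82]))) (.mg [1] []
 (.mg [18, 23] []
 (.lf 7 [69, 2, 53, 42, 52, 52, 68, 66, 84, 70, 83])))))) (.mg [21] [29, 30, 33]
 (.mg [0] []
 (.mg [4] []
 (.mg [29] []
 (.mg [25, 29] []
 (.lf 7 [49, 2, 44, 42, 52, 54, 61, 66, 77, 83])))))) (.mg [21] [29, 30, 32]
 (.mg [1] []
 (.mg [5] []
 (.mg [29] []
 (.mg [24, 28] []
 (.lf 7 [14, 70, 2, 82, 41, 71, 69, 76, 73, 79]))))))) (.br (.mg [0] []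
 (.mg [19] [33]
 (.mg [6] []
 (.mg [24] []
 (.nt 22))))) (.mg [0] [26, 33]
 (.mg [19] [33]
 (.mg [4] []
 (.mg [29] []
 (.nt 22))))) (.mg [0] [27, 32]
 (.mg [19] [33]
 (.mg [5] []
 (.mg [29] []
 (.nt 22)))))) (.br (.mg [1] []
 (.mg [19] [32]
 (.mg [7] []
 (.mg [24] []
 (.nt 22))))) (.mg [1] [27, 33]
 (.mg [19] [32]
 (.mg [4] []
 (.mg [29] []
 (.nt 22))))) (.mg [1] [26, 32]
 (.mg [19] [32]
 (.mg [5] []
 (.mg [29] []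
 (.nt 22)))))))) (.mg [0] []
 (.mg [5] []
 (.mg [7] []
 (.mg [21] [29, 30, 33]
 (.mg [19] []
 (.nt 9)))))) (.mg [1] []
 (.mg [4] []
 (.mg [6] []
 (.mg [21] [29, 30, 32]
 (.mg [19] []
 (.nt 9)))))))) (by decide +kernel)

theorem tr24 : CT.ClW e ns LL reps [2, 18, 20, 22, 24, 26, 28, 30, 32] [0, 4] :=
  CT.clW_of mo hE hqs (t := (.br (.mg [3] [21, 24]
 (.br (.br (.mg [18] []
 (.mg [23] [28, 31]
 (.br (.mg [27] []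
 (.br (.lf 4 [3, 54, 5, 66, 44, 79, 52, 62, 72, 70, 82]) (.lf 11 [82, 10, 40, 44, 38, 56, 50, 73, 65, 60, 72, 82]) (.lf 9 [76, 4, 2, 40, 64, 38, 68, 53, 78, 63, 71, 78]))) (.mg [0] []
 (.mg [19, 21] []
 (.lf 7 [4, 52, 3, 59, 61, 38, 63, 58, 85, 60, 73, 73, 85]))) (.mg [1] []
 (.mg [18, 20] []
 (.lf 7 [63, 10, 2, 72, 49, 65, 53, 50, 60, 62, 84, 70, 82])))))) (.mg [18] [33]
 (.mg [0] []
 (.mg [4] []
 (.mg [27] []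
 (.nt 22))))) (.mg [18] [32]
 (.mg [1] []
 (.mg [5] []
 (.mg [27] []
 (.nt 22)))))) (.br (.mg [0] []
 (.mg [23] [28, 31, 33]
 (.mg [6] []
 (.mg [29] []
 (.mg [27, 28] []
 (.lf 7 [10, 45, 2, 64, 44, 84, 50, 65, 63, 84, 70, 85])))))) (.mg [18] [33]
 (.mg [0, 20] []
 (.mg [4] []
 (.mg [29] []
 (.nt 22))))) (.mg [18] [32]
 (.mg [23] [28, 31, 33]
 (.mg [5] []
 (.mg [29] []
 (.nt 22)))))) (.br (.mg [1] []
 (.mg [23] [28, 31, 32]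
 (.mg [7] []
 (.mg [29] []
 (.mg [26, 29] []
 (.lf 7 [49, 7, 39, 65, 50, 72, 62, 61, 78, 73, 70, 83])))))) (.mg [18] [33]
 (.mg [0, 21] []
 (.mg [4] []
 (.mg [29] []
 (.nt 22))))) (.mg [18] [32]
 (.mg [23] [28, 31, 32]
 (.mg [5] []
 (.mg [29] []
 (.nt 22)))))))) (.mg [0] []
 (.mg [5] []
 (.mg [7] []
 (.mg [18] []
 (.nt 8))))) (.mg [1] []
 (.mg [4] []
 (.mg [6] []
 (.mg [18] []
 (.nt 8))))))) (by decide +kernel)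

end Cfsg.Agent.O83
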