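import Cfsg.Agent.O83.Model

set_option autoImplicit false
set_option Elab.async false
set_option maxRecDepth 4096

namespace Cfsg.Agent.O83

open Cfsg.Agent.Comp

theorem tr25 : CT.ClW e ns LL reps [2, 18, 20, 22, 24, 26, 28, 30, 32] [0, 4, 6] :=
  CT.clW_of mo hE hqs (t := (.br (.mg [3] [21, 23, 24, 26, 28, 31, 33]
 (.br (.br (.mg [18] [26, 31]
 (.mg [23] [28, 31]
 (.mg [18, 20, 22] [30, 32]
 (.mg [25] []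
 (.br (.lf 11 [5, 45, 2, 55, 49, 61, 55, 78, 66, 73, 80]) (.lf 12 [14, 55, 10, 44, 48, 70, 58, 65, 72, 60, 79, 76, 81]) (.lf 7 [49, 42, 2, 41, 38, 78, 59, 78, 60, 76, 83])))))) (.mg [18] [26, 31, 33]
 (.mg [0] []
 (.mg [4] []
 (.mg [27] []
 (.nt 22))))) (.mg [18] [26, 31, 32]
 (.mg [1] []
 (.mg [5] []
 (.mg [27] []
 (.nt 22)))))) (.br (.mg [0] []
 (.mg [18, 20] [29]
 (.mg [6] []
 (.mg [25] []
 (.nt 22))))) (.mg [0] [26, 33]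
 (.mg [0, 20] [29]
 (.mg [4] []
 (.mg [29] []
 (.nt 22))))) (.mg [0] [27, 32]
 (.mg [18, 20] [29]
 (.mg [5] []
 (.mg [29] []
 (.mg [24, 29] []
 (.nt 50))))))) (.br (.mg [1] []
 (.mg [23] [28, 31, 32]
 (.mg [7] []
 (.mg [25] []
 (.nt 22))))) (.mg [1] [27, 33]
 (.mg [0, 21] [28]
 (.mg [4] []
 (.mg [29] []
 (.mg [25, 28] []
 (.nt 50)))))) (.mg [1] [26, 32]
 (.mg [23] [28, 31, 32]
 (.mg [5] []
 (.mg [29] []
 (.nt 22)))))))) (.mg [0] []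
 (.mg [5] []
 (.mg [7] []
 (.mg [18] [26, 31, 32]
 (.nt 8))))) (.mg [1] []
 (.mg [4] []
 (.mg [6] []
 (.mg [18] [26, 31, 33]
 (.nt 8))))))) (by decide +kernel)

theorem tr26 : CT.ClW e ns LL reps [2, 18, 20, 22, 24, 26, 28, 30, 32] [0, 4, 7] :=
  CT.clW_of mo hE hqs (t := (.br (.mg [3] [21, 22, 24, 27, 29, 30, 32]
 (.br (.br (.mg [18] [27, 30]
 (.mg [23] [28, 31]
 (.mg [19, 21, 22] [30, 33]
 (.mg [24] []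
 (.br (.lf 9 [6, 42, 2, 47, 47, 43, 70, 59, 66, 61, 71]) (.lf 7 [39, 3, 11, 73, 41, 81, 60, 77, 77, 81]) (.lf 12 [7, 56, 14, 65, 45, 78, 59, 65, 62, 77, 83])))))) (.mg [18] [27, 30, 33]
 (.mg [0] []
 (.mg [4] []
 (.mg [27] []
 (.nt 22))))) (.mg [18] [27, 30, 32]
 (.mg [1] []
 (.mg [5] []
 (.mg [27] []
 (.nt 22)))))) (.br (.mg [0] []
 (.mg [23] [28, 31, 33]
 (.mg [6] []
 (.mg [24] []
 (.nt 22))))) (.mg [0] [26, 33]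
 (.mg [0, 20] [28]
 (.mg [4] []
 (.mg [29] []
 (.mg [25, 29] []
 (.nt 50)))))) (.mg [0] [27, 32]
 (.mg [23] [28, 31, 33]
 (.mg [5] []
 (.mg [29] []
 (.nt 22)))))) (.br (.mg [1] []
 (.mg [19, 21] [29]
 (.mg [7] []
 (.mg [24] []
 (.nt 22))))) (.mg [1] [27, 33]
 (.mg [0, 21] [29]
 (.mg [4] []
 (.mg [29] []
 (.nt 22))))) (.mg [1] [26, 32]
 (.mg [19, 21] [29]
 (.mg [5] []
 (.mg [29] []
 (.mg [24, 28] []
 (.nt 50))))))))) (.mg [0] []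
 (.mg [5] []
 (.mg [7] []
 (.mg [18] [27, 30, 33]
 (.nt 8))))) (.mg [1] []
 (.mg [4] []
 (.mg [6] []
 (.mg [18] [27, 30, 32]
 (.nt 8))))))) (by decide +kernel)

theorem tr27 : CT.ClW e ns LL reps [2, 18, 20, 22, 24, 26, 28, 30, 32] [0, 5] :=
  CT.clW_of mo hE hqs (t := (.br (.mg [3] [20, 25]
 (.br (.br (.mg [19] []
 (.mg [23] [29, 30]
 (.br (.mg [26] []
 (.br (.lf 3 [65, 4, 59, 45, 61, 51, 65, 63, 79, 76, 83]) (.lf 10 [5, 54, 2, 76, 42, 56, 50, 62, 61, 77, 73, 79]) (.lf 8 [59, 4, 65, 48, 38, 70, 58, 68, 60, 76]))) (.mg [0] []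
 (.mg [19, 20] []
 (.lf 7 [10, 46, 5, 73, 50, 38, 70, 58, 85, 66, 84]))) (.mg [1] []
 (.mg [18, 21] []
 (.lf 7 [49, 7, 4, 71, 43, 58, 62, 61, 70, 77, 84])))))) (.mg [19] [33]
 (.mg [0] []
 (.mg [4] []
 (.mg [26] []
 (.nt 22))))) (.mg [19] [32]
 (.mg [1] []
 (.mg [5] []
 (.mg [26] []
 (.nt 22)))))) (.br (.mg [0] []
 (.mg [23] [29, 30, 33]
 (.mg [6] []
 (.mg [29] []
 (.mg [27, 29] []
 (.lf 7 [57, 11, 46, 53, 38, 54, 50, 77, 60, 73, 73, 85])))))) (.mg [19] [33]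
 (.mg [0, 20] []
 (.mg [4] []
 (.mg [29] []
 (.nt 22))))) (.mg [19] [32]
 (.mg [23] [29, 30, 33]
 (.mg [5] []
 (.mg [29] []
 (.nt 22)))))) (.br (.mg [1] []
 (.mg [23] [29, 30, 32]
 (.mg [7] []
 (.mg [29] []
 (.mg [26, 28] []
 (.lf 7 [48, 6, 5, 78, 38, 69, 50, 60, 65, 62, 73, 85])))))) (.mg [19] [33]
 (.mg [0, 21] []
 (.mg [4] []
 (.mg [29] []
 (.nt 22))))) (.mg [19] [32]
 (.mg [23] [29, 30, 32]
 (.mg [5] []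
 (.mg [29] []
 (.nt 22)))))))) (.mg [0] []
 (.mg [5] []
 (.mg [7] []
 (.mg [19] []
 (.nt 8))))) (.mg [1] []
 (.mg [4] []
 (.mg [6] []
 (.mg [19] []
 (.nt 8))))))) (by decide +kernel)

theorem tr28 : CT.ClW e ns LL reps [2, 18, 20, 22, 24, 26, 28, 30, 32] [0, 5, 6] :=
  CT.clW_of mo hE hqs (t := (.br (.mg [3] [20, 23, 25, 26, 29, 30, 32]
 (.br (.br (.mg [19] [27, 31]
 (.mg [23] [29, 30]
 (.mg [19, 20, 23] [30, 33]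
 (.mg [25] []
 (.br (.lf 8 [62, 12, 7, 76, 47, 55, 50, 77, 64, 60, 76]) (.lf 7 [15, 45, 3, 77, 38, 53, 53, 74, 62, 76, 73, 85]) (.lf 12 [39, 71, 2, 40, 40, 74, 66, 85, 70, 82])))))) (.mg [19] [27, 31, 33]
 (.mg [0] []
 (.mg [4] []
 (.mg [26] []
 (.nt 22))))) (.mg [19] [27, 31, 32]
 (.mg [1] []
 (.mg [5] []
 (.mg [26] []
 (.nt 22)))))) (.br (.mg [0] []
 (.mg [23] [29, 30, 33]
 (.mg [6] []
 (.mg [25] []
 (.nt 22))))) (.mg [0] [26, 33]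
 (.mg [0, 20] [29]
 (.mg [4] []
 (.mg [29] []
 (.mg [25, 28] []
 (.nt 50)))))) (.mg [0] [27, 32]
 (.mg [23] [29, 30, 33]
 (.mg [5] []
 (.mg [29] []
 (.nt 22)))))) (.br (.mg [1] []
 (.mg [18, 21] [28]
 (.mg [7] []
 (.mg [25] []
 (.nt 22))))) (.mg [1] [27, 33]
 (.mg [0, 21] [28]
 (.mg [4] []
 (.mg [29] []
 (.nt 22))))) (.mg [1] [26, 32]
 (.mg [18, 21] [28]
 (.mg [5] []
 (.mg [29] []
 (.mg [24, 29] []
 (.nt 50))))))))) (.mg [0] []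
 (.mg [5] []
 (.mg [7] []
 (.mg [19] [27, 31, 32]
 (.nt 8))))) (.mg [1] []
 (.mg [4] []
 (.mg [6] []
 (.mg [19] [27, 31, 33]
 (.nt 8))))))) (by decide +kernel)

theorem tr29 : CT.ClW e ns LL reps [2, 18, 20, 22, 24, 26, 28, 30, 32] [0, 5, 7] :=
  CT.clW_of mo hE hqs (t := (.br (.mg [3] [20, 22, 25, 27, 28, 31, 33]
 (.br (.br (.mg [19] [26, 30]
 (.mg [23] [29, 30]
 (.mg [18, 21, 23] [30, 32]
 (.mg [24] []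
 (.br (.lf 10 [52, 1, 2, 48, 50, 65, 63, 79, 76, 81]) (.lf 12 [68, 7, 83, 46, 70, 58, 73, 66, 73, 73]) (.lf 7 [66, 8, 10, 2, 74, 40, 40, 68, 52, 70, 66, 76, 83])))))) (.mg [19] [26, 30, 33]
 (.mg [0] []
 (.mg [4] []
 (.mg [26] []
 (.nt 22))))) (.mg [19] [26, 30, 32]
 (.mg [1] []
 (.mg [5] []
 (.mg [26] []
 (.nt 22)))))) (.br (.mg [0] []
 (.mg [19, 20] [28]
 (.mg [6] []
 (.mg [24] []
 (.nt 22))))) (.mg [0] [26, 33]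
 (.mg [0, 20] [28]
 (.mg [4] []
 (.mg [29] []
 (.nt 22))))) (.mg [0] [27, 32]
 (.mg [19, 20] [28]
 (.mg [5] []
 (.mg [29] []
 (.mg [24, 28] []
 (.nt 50))))))) (.br (.mg [1] []
 (.mg [23] [29, 30, 32]
 (.mg [7] []
 (.mg [24] []
 (.nt 22))))) (.mg [1] [27, 33]
 (.mg [0, 21] [29]
 (.mg [4] []
 (.mg [29] []
 (.mg [25, 29] []
 (.nt 50)))))) (.mg [1] [26, 32]
 (.mg [23] [29, 30, 32]
 (.mg [5] []
 (.mg [29] []
 (.nt 22)))))))) (.mg [0] []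
 (.mg [5] []
 (.mg [7] []
 (.mg [19] [26, 30, 33]
 (.nt 8))))) (.mg [1] []
 (.mg [4] []
 (.mg [6] []
 (.mg [19] [26, 30, 32]
 (.nt 8))))))) (by decide +kernel)

theorem tr30 : CT.ClW e ns LL reps [2, 18, 20, 22, 24, 26, 28, 30, 32] [1] :=
  CT.clW_of mo hE hqs (t := (.br (.mg [2] []
 (.br (.br (.mg [20] []
 (.mg [22] []
 (.br (.mg [28] []
 (.br (.lf 0 [6, 5, 39, 50, 38, 54, 68, 67, 73, 73, 85]) (.lf 1 [44, 10, 55, 46, 38, 57, 50, 66, 64, 72, 78]) (.lf 2 [6, 40, 2, 67, 44, 85, 56, 60, 68, 62, 72, 82]))) (.mg [0] []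
 (.mg [19] []
 (.lf 7 [46, 14, 5, 55, 48, 38, 60, 54, 66, 63, 85]))) (.mg [1] []
 (.mg [18] []
 (.lf 7 [12, 10, 2, 74, 47, 78, 59, 66, 60, 82, 70])))))) (.mg [20] [33]
 (.mg [0] []
 (.mg [4] []
 (.mg [28] []
 (.mg [25] []
 (.lf 7 [4, 58, 6, 65, 41, 38, 64, 50, 61, 67, 71, 76])))))) (.mg [20] [32]
 (.mg [1] []
 (.mg [5] []
 (.mg [28] []
 (.mg [24] []
 (.lf 7 [68, 14, 54, 45, 78, 51, 64, 67, 72, 85]))))))) (.br (.mg [0] []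
 (.mg [22] [33]
 (.mg [6] []
 (.mg [28] []
 (.mg [27] []
 (.lf 7 [10, 6, 49, 40, 82, 50, 72, 67, 71, 72, 83])))))) (.mg [20] [33]
 (.mg [22] [33]
 (.mg [4] []
 (.mg [28] []
 (.mg [25] []
 (.nt 50)))))) (.mg [20] [32]
 (.mg [22] [33]
 (.mg [5] []
 (.mg [28] []
 (.mg [24] []
 (.nt 50))))))) (.br (.mg [1] []
 (.mg [22] [32]
 (.mg [7] []
 (.mg [28] []
 (.mg [26] []
 (.lf 7 [11, 5, 2, 68, 41, 68, 66, 76, 73, 70, 81])))))) (.mg [20] [33]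
 (.mg [22] [32]
 (.mg [4] []
 (.mg [28] []
 (.mg [25] []
 (.nt 50)))))) (.mg [20] [32]
 (.mg [22] [32]
 (.mg [5] []
 (.mg [28] []
 (.mg [24] []
 (.nt 50))))))))) (.mg [0] []
 (.mg [5] []
 (.mg [7] []
 (.mg [20] []
 (.mg [22] []
 (.br (.mg [28] [33]
 (.mg [31] []
 (.lf 7 [15, 68, 2, 78, 38, 68, 53, 61, 70, 60, 71]))) (.mg [28] [33]
 (.mg [19] []
 (.nt 50))) (.mg [28] [33]
 (.mg [18] []
 (.nt 50))))))))) (.mg [1] []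
 (.mg [4] []
 (.mg [6] []
 (.mg [20] []
 (.mg [22] []
 (.br (.mg [28] [32]
 (.mg [30] []
 (.lf 7 [4, 57, 11, 55, 47, 69, 55, 72, 67, 73, 73, 85]))) (.mg [28] [32]
 (.mg [19] []
 (.nt 50))) (.mg [28] [32]
 (.mg [18] []
 (.nt 50))))))))))) (by decide +kernel)

theorem tr31 : CT.ClW e ns LL reps [2, 18, 20, 22, 24, 26, 28, 30, 32] [1, 6] :=
  CT.clW_of mo hE hqs (t := (.br (.mg [2] [22, 26]
 (.br (.br (.mg [20] [29, 31]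
 (.mg [18] []
 (.br (.mg [25] []
 (.br (.lf 5 [66, 10, 2, 64, 38, 38, 51, 54, 62, 84, 70]) (.lf 9 [64, 3, 38, 43, 56, 54, 61, 71, 84]) (.lf 10 [45, 4, 38, 43, 75, 53, 68, 66, 76, 73, 73, 79]))) (.mg [0] []
 (.mg [19, 22] []
 (.lf 7 [10, 6, 3, 44, 48, 55, 51, 71, 62, 72]))) (.mg [1] []
 (.mg [18, 23] []
 (.lf 7 [7, 46, 7, 66, 39, 59, 52, 61, 78, 63, 82, 70])))))) (.mg [20] [29, 31, 33]
 (.mg [0] []
 (.mg [4] []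
 (.mg [28] []
 (.mg [25, 29] []
 (.lf 7 [47, 10, 49, 38, 81, 56, 83, 60, 79, 70, 85])))))) (.mg [20] [29, 31, 32]
 (.mg [1] []
 (.mg [5] []
 (.mg [28] []
 (.mg [24, 28] []
 (.lf 7 [48, 5, 49, 42, 69, 50, 66, 60, 70, 77, 79]))))))) (.br (.mg [0] []
 (.mg [18] [33]
 (.mg [6] []
 (.mg [25] []
 (.nt 22))))) (.mg [0] [26, 33]
 (.mg [18] [33]
 (.mg [4] []
 (.mg [28] []
 (.nt 22))))) (.mg [0] [27, 32]
 (.mg [18] [33]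
 (.mg [5] []
 (.mg [28] []
 (.nt 22)))))) (.br (.mg [1] []
 (.mg [18] [32]
 (.mg [7] []
 (.mg [25] []
 (.nt 22))))) (.mg [1] [27, 33]
 (.mg [18] [32]
 (.mg [4] []
 (.mg [28] []
 (.nt 22))))) (.mg [1] [26, 32]
 (.mg [18] [32]
 (.mg [5] []
 (.mg [28] []
 (.nt 22)))))))) (.mg [0] []
 (.mg [5] []
 (.mg [7] []
 (.mg [20] [29, 31, 32]
 (.mg [18] []
 (.nt 9)))))) (.mg [1] []
 (.mg [4] []
 (.mg [6] []
 (.mg [20] [29, 31, 33]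
 (.mg [18] []
 (.nt 9)))))))) (by decide +kernel)

theorem tr32 : CT.ClW e ns LL reps [2, 18, 20, 22, 24, 26, 28, 30, 32] [1, 7] :=
  CT.clW_of mo hE hqs (t := (.br (.mg [2] [23, 27]
 (.br (.br (.mg [20] [28, 30]
 (.mg [19] []
 (.br (.mg [24] []
 (.br (.lf 6 [11, 62, 3, 69, 38, 74, 55, 62, 67, 85, 70, 80]) (.lf 8 [3, 64, 2, 57, 42, 68, 53, 85, 66, 72, 72, 80]) (.lf 11 [66, 14, 77, 44, 85, 56, 76, 65, 60, 70, 77]))) (.mg [0] []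
 (.mg [19, 23] []
 (.lf 7 [48, 6, 64, 43, 65, 54, 74, 60, 73, 81]))) (.mg [1] []
 (.mg [18, 22] []
 (.lf 7 [85, 4, 52, 43, 38, 84, 52, 62, 69, 60, 82, 70])))))) (.mg [20] [28, 30, 33]
 (.mg [0] []
 (.mg [4] []
 (.mg [28] []
 (.mg [25, 28] []
 (.lf 7 [11, 3, 82, 43, 57, 52, 62, 78, 73, 70, 82])))))) (.mg [20] [28, 30, 32]
 (.mg [1] []
 (.mg [5] []
 (.mg [28] []
 (.mg [24, 29] []
 (.lf 7 [7, 40, 2, 66, 47, 38, 77, 60, 77, 81]))))))) (.br (.mg [0] []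
 (.mg [19] [33]
 (.mg [6] []
 (.mg [24] []
 (.nt 22))))) (.mg [0] [26, 33]
 (.mg [19] [33]
 (.mg [4] []
 (.mg [28] []
 (.nt 22))))) (.mg [0] [27, 32]
 (.mg [19] [33]
 (.mg [5] []
 (.mg [28] []
 (.nt 22)))))) (.br (.mg [1] []
 (.mg [19] [32]
 (.mg [7] []
 (.mg [24] []
 (.nt 22))))) (.mg [1] [27, 33]
 (.mg [19] [32]
 (.mg [4] []
 (.mg [28] []
 (.nt 22))))) (.mg [1] [26, 32]
 (.mg [19] [32]
 (.mg [5] []
 (.mg [28] []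
 (.nt 22)))))))) (.mg [0] []
 (.mg [5] []
 (.mg [7] []
 (.mg [20] [28, 30, 33]
 (.mg [19] []
 (.nt 9)))))) (.mg [1] []
 (.mg [4] []
 (.mg [6] []
 (.mg [20] [28, 30, 32]
 (.mg [19] []
 (.nt 9)))))))) (by decide +kernel)

theorem tr33 : CT.ClW e ns LL reps [2, 18, 20, 22, 24, 26, 28, 30, 32] [1, 4] :=
  CT.clW_of mo hE hqs (t := (.br (.mg [2] [20, 24]
 (.br (.br (.mg [18] []
 (.mg [22] [29, 31]
 (.br (.mg [27] []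
 (.br (.lf 3 [61, 4, 50, 44, 51, 54, 67, 79, 76, 85]) (.lf 8 [7, 2, 41, 49, 55, 51, 77, 60, 72]) (.lf 10 [15, 2, 68, 41, 65, 63, 72, 84]))) (.mg [0] []
 (.mg [19, 20] []
 (.lf 7 [38, 6, 2, 47, 41, 66, 50, 81, 60, 77, 83]))) (.mg [1] []
 (.mg [18, 21] []
 (.lf 7 [4, 55, 2, 62, 42, 39, 78, 56, 85, 70, 83])))))) (.mg [18] [33]
 (.mg [0] []
 (.mg [4] []
 (.mg [27] []
 (.nt 22))))) (.mg [18] [32]
 (.mg [1] []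
 (.mg [5] []
 (.mg [27] []
 (.nt 22)))))) (.br (.mg [0] []
 (.mg [22] [29, 31, 33]
 (.mg [6] []
 (.mg [28] []
 (.mg [27, 29] []
 (.lf 7 [11, 13, 2, 40, 48, 85, 56, 67, 78, 73, 70, 80])))))) (.mg [18] [33]
 (.mg [0, 21] []
 (.mg [4] []
 (.mg [28] []
 (.nt 22))))) (.mg [18] [32]
 (.mg [22] [29, 31, 33]
 (.mg [5] []
 (.mg [28] []
 (.nt 22)))))) (.br (.mg [1] []
 (.mg [22] [29, 31, 32]
 (.mg [7] []
 (.mg [28] []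
 (.mg [26, 28] []
 (.lf 7 [12, 52, 3, 39, 47, 62, 50, 65, 61, 77, 73, 78])))))) (.mg [18] [33]
 (.mg [0, 20] []
 (.mg [4] []
 (.mg [28] []
 (.nt 22))))) (.mg [18] [32]
 (.mg [22] [29, 31, 32]
 (.mg [5] []
 (.mg [28] []
 (.nt 22)))))))) (.mg [0] []
 (.mg [5] []
 (.mg [7] []
 (.mg [18] []
 (.nt 8))))) (.mg [1] []
 (.mg [4] []
 (.mg [6] []
 (.mg [18] []
 (.nt 8))))))) (by decide +kernel)

theorem tr34 : CT.ClW e ns LL reps [2, 18, 20, 22, 24, 26, 28, 30, 32] [1, 4, 6] :=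
  CT.clW_of mo hE hqs (t := (.br (.mg [2] [20, 22, 24, 26, 29, 31, 32]
 (.br (.br (.mg [18] [26, 31]
 (.mg [22] [29, 31]
 (.mg [19, 20, 22] [31, 33]
 (.mg [25] []
 (.br (.lf 10 [48, 14, 43, 48, 41, 69, 53, 68, 63, 77, 82]) (.lf 7 [51, 3, 85, 42, 38, 78, 59, 61, 61, 71]) (.lf 12 [15, 57, 6, 69, 38, 38, 85, 50, 60, 72, 77, 79])))))) (.mg [18] [26, 31, 33]
 (.mg [0] []
 (.mg [4] []
 (.mg [27] []
 (.nt 22))))) (.mg [18] [26, 31, 32]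
 (.mg [1] []
 (.mg [5] []
 (.mg [27] []
 (.nt 22)))))) (.br (.mg [0] []
 (.mg [22] [29, 31, 33]
 (.mg [6] []
 (.mg [25] []
 (.nt 22))))) (.mg [0] [26, 33]
 (.mg [22] [29, 31, 33]
 (.mg [4] []
 (.mg [28] []
 (.nt 22))))) (.mg [0] [27, 32]
 (.mg [22] [29, 31, 33]
 (.mg [5] []
 (.mg [28] []
 (.mg [24, 28] []
 (.nt 50))))))) (.br (.mg [1] []
 (.mg [18, 21] [28]
 (.mg [7] []
 (.mg [25] []
 (.nt 22))))) (.mg [1] [27, 33]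
 (.mg [18, 21] [28]
 (.mg [4] []
 (.mg [28] []
 (.mg [25, 29] []
 (.nt 50)))))) (.mg [1] [26, 32]
 (.mg [18, 21] [28]
 (.mg [5] []
 (.mg [28] []
 (.nt 22)))))))) (.mg [0] []
 (.mg [5] []
 (.mg [7] []
 (.mg [18] [26, 31, 32]
 (.nt 8))))) (.mg [1] []
 (.mg [4] []
 (.mg [6] []
 (.mg [18] [26, 31, 33]
 (.nt 8))))))) (by decide +kernel)

theorem tr35 : CT.ClW e ns LL reps [2, 18, 20, 22, 24, 26, 28, 30, 32] [1, 4, 7] :=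
  CT.clW_of mo hE hqs (t := (.br (.mg [2] [20, 23, 24, 27, 28, 30, 33]
 (.br (.br (.mg [18] [27, 30]
 (.mg [22] [29, 31]
 (.mg [18, 21, 22] [31, 32]
 (.mg [24] []
 (.br (.lf 8 [14, 49, 5, 54, 44, 51, 54, 50, 78, 62, 76, 82]) (.lf 12 [45, 7, 57, 41, 65, 52, 83, 60, 71, 76, 81]) (.lf 7 [45, 14, 50, 41, 71, 51, 71, 60, 70, 81])))))) (.mg [18] [27, 30, 33]
 (.mg [0] []
 (.mg [4] []
 (.mg [27] []
 (.nt 22))))) (.mg [18] [27, 30, 32]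
 (.mg [1] []
 (.mg [5] []
 (.mg [27] []
 (.nt 22)))))) (.br (.mg [0] []
 (.mg [19, 20] [28]
 (.mg [6] []
 (.mg [24] []
 (.nt 22))))) (.mg [0] [26, 33]
 (.mg [19, 20] [28]
 (.mg [4] []
 (.mg [28] []
 (.mg [25, 28] []
 (.nt 50)))))) (.mg [0] [27, 32]
 (.mg [19, 20] [28]
 (.mg [5] []
 (.mg [28] []
 (.nt 22)))))) (.br (.mg [1] []
 (.mg [22] [29, 31, 32]
 (.mg [7] []
 (.mg [24] []
 (.nt 22))))) (.mg [1] [27, 33]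
 (.mg [22] [29, 31, 32]
 (.mg [4] []
 (.mg [28] []
 (.nt 22))))) (.mg [1] [26, 32]
 (.mg [22] [29, 31, 32]
 (.mg [5] []
 (.mg [28] []
 (.mg [24, 29] []
 (.nt 50))))))))) (.mg [0] []
 (.mg [5] []
 (.mg [7] []
 (.mg [18] [27, 30, 33]
 (.nt 8))))) (.mg [1] []
 (.mg [4] []
 (.mg [6] []
 (.mg [18] [27, 30, 32]
 (.nt 8))))))) (by decide +kernel)

theorem tr36 : CT.ClW e ns LL reps [2, 18, 20, 22, 24, 26, 28, 30, 32] [1, 5] :=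
  CT.clW_of mo hE hqs (t := (.br (.mg [2] [21, 25]
 (.br (.br (.mg [19] []
 (.mg [22] [28, 30]
 (.br (.mg [26] []
 (.br (.lf 4 [45, 4, 69, 43, 55, 50, 61, 71, 72, 78]) (.lf 9 [60, 10, 76, 40, 83, 60, 73, 73, 82]) (.lf 11 [4, 78, 2, 80, 43, 38, 68, 50, 71, 64, 84, 70]))) (.mg [0] []
 (.mg [19, 21] []
 (.lf 7 [41, 2, 77, 46, 70, 58, 68, 67, 74, 72, 80]))) (.mg [1] []
 (.mg [18, 20] []
 (.lf 7 [47, 4, 2, 66, 42, 60, 54, 64, 67, 85, 73, 70, 78])))))) (.mg [19] [33]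
 (.mg [0] []
 (.mg [4] []
 (.mg [26] []
 (.nt 22))))) (.mg [19] [32]
 (.mg [1] []
 (.mg [5] []
 (.mg [26] []
 (.nt 22)))))) (.br (.mg [0] []
 (.mg [22] [28, 30, 33]
 (.mg [6] []
 (.mg [28] []
 (.mg [27, 28] []
 (.lf 7 [10, 15, 2, 82, 47, 78, 59, 67, 76, 73, 70, 83])))))) (.mg [19] [33]
 (.mg [0, 21] []
 (.mg [4] []
 (.mg [28] []
 (.nt 22))))) (.mg [19] [32]
 (.mg [22] [28, 30, 33]
 (.mg [5] []
 (.mg [28] []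
 (.nt 22)))))) (.br (.mg [1] []
 (.mg [22] [28, 30, 32]
 (.mg [7] []
 (.mg [28] []
 (.mg [26, 29] []
 (.lf 7 [53, 3, 48, 51, 71, 65, 60, 78, 73, 70])))))) (.mg [19] [33]
 (.mg [0, 20] []
 (.mg [4] []
 (.mg [28] []
 (.nt 22))))) (.mg [19] [32]
 (.mg [22] [28, 30, 32]
 (.mg [5] []
 (.mg [28] []
 (.nt 22)))))))) (.mg [0] []
 (.mg [5] []
 (.mg [7] []
 (.mg [19] []
 (.nt 8))))) (.mg [1] []
 (.mg [4] []
 (.mg [6] []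
 (.mg [19] []
 (.nt 8))))))) (by decide +kernel)

theorem tr37 : CT.ClW e ns LL reps [2, 18, 20, 22, 24, 26, 28, 30, 32] [1, 5, 6] :=
  CT.clW_of mo hE hqs (t := (.br (.mg [2] [21, 22, 25, 26, 28, 30, 33]
 (.br (.br (.mg [19] [27, 31]
 (.mg [22] [28, 30]
 (.mg [18, 20, 23] [31, 32]
 (.mg [25] []
 (.br (.lf 9 [51, 7, 67, 43, 78, 51, 68, 62, 70, 79]) (.lf 12 [3, 43, 2, 58, 40, 38, 50, 78, 63, 76, 79]) (.lf 7 [3, 44, 4, 46, 61, 72, 82])))))) (.mg [19] [27, 31, 33]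
 (.mg [0] []
 (.mg [4] []
 (.mg [26] []
 (.nt 22))))) (.mg [19] [27, 31, 32]
 (.mg [1] []
 (.mg [5] []
 (.mg [26] []
 (.nt 22)))))) (.br (.mg [0] []
 (.mg [18, 20] [29]
 (.mg [6] []
 (.mg [25] []
 (.nt 22))))) (.mg [0] [26, 33]
 (.mg [18, 20] [29]
 (.mg [4] []
 (.mg [28] []
 (.mg [25, 29] []
 (.nt 50)))))) (.mg [0] [27, 32]
 (.mg [18, 20] [29]
 (.mg [5] []
 (.mg [28] []
 (.nt 22)))))) (.br (.mg [1] []
 (.mg [22] [28, 30, 32]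
 (.mg [7] []
 (.mg [25] []
 (.nt 22))))) (.mg [1] [27, 33]
 (.mg [22] [28, 30, 32]
 (.mg [4] []
 (.mg [28] []
 (.nt 22))))) (.mg [1] [26, 32]
 (.mg [22] [28, 30, 32]
 (.mg [5] []
 (.mg [28] []
 (.mg [24, 28] []
 (.nt 50))))))))) (.mg [0] []
 (.mg [5] []
 (.mg [7] []
 (.mg [19] [27, 31, 32]
 (.nt 8))))) (.mg [1] []
 (.mg [4] []
 (.mg [6] []
 (.mg [19] [27, 31, 33]
 (.nt 8))))))) (by decide +kernel)

theorem tr38 : CT.ClW e ns LL reps [2, 18, 20, 22, 24, 26, 28, 30, 32] [1, 5, 7] :=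
  CT.clW_of mo hE hqs (t := (.br (.mg [2] [21, 23, 25, 27, 29, 31, 32]
 (.br (.br (.mg [19] [26, 30]
 (.mg [22] [28, 30]
 (.mg [19, 21, 23] [31, 33]
 (.mg [24] []
 (.br (.lf 11 [59, 6, 42, 59, 38, 66, 54, 50, 83, 60, 73, 70, 79]) (.lf 7 [55, 5, 2, 39, 46, 50, 69, 61, 76, 73, 78]) (.lf 12 [70, 12, 60, 44, 85, 56, 78, 63, 60, 77, 77, 82])))))) (.mg [19] [26, 30, 33]
 (.mg [0] []
 (.mg [4] []
 (.mg [26] []
 (.nt 22))))) (.mg [19] [26, 30, 32]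
 (.mg [1] []
 (.mg [5] []
 (.mg [26] []
 (.nt 22)))))) (.br (.mg [0] []
 (.mg [22] [28, 30, 33]
 (.mg [6] []
 (.mg [24] []
 (.nt 22))))) (.mg [0] [26, 33]
 (.mg [22] [28, 30, 33]
 (.mg [4] []
 (.mg [28] []
 (.nt 22))))) (.mg [0] [27, 32]
 (.mg [22] [28, 30, 33]
 (.mg [5] []
 (.mg [28] []
 (.mg [24, 29] []
 (.nt 50))))))) (.br (.mg [1] []
 (.mg [19, 21] [29]
 (.mg [7] []
 (.mg [24] []
 (.nt 22))))) (.mg [1] [27, 33]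
 (.mg [19, 21] [29]
 (.mg [4] []
 (.mg [28] []
 (.mg [25, 28] []
 (.nt 50)))))) (.mg [1] [26, 32]
 (.mg [19, 21] [29]
 (.mg [5] []
 (.mg [28] []
 (.nt 22)))))))) (.mg [0] []
 (.mg [5] []
 (.mg [7] []
 (.mg [19] [26, 30, 33]
 (.nt 8))))) (.mg [1] []
 (.mg [4] []
 (.mg [6] []
 (.mg [19] [26, 30, 32]
 (.nt 8))))))) (by decide +kernel)

end Cfsg.Agent.O83
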