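import Cfsg.Agent.O83.Tree0
import Cfsg.Agent.O83.Tree1
import Cfsg.Agent.O83.Tree2

set_option autoImplicit false
set_option Elab.async false
set_option maxRecDepth 4096

namespace Cfsg.Agent.O83

open Cfsg.Agent.Comp

theorem tree : CT.ClW e ns LL reps LL [] :=
  (CT.ClW.br (CT.ClW.br (CT.ClW.br (CT.ClW.br (CT.ClW.br (CT.ClW.br (CT.ClW.br tr0 tr1 tr2) tr3 tr4) (CT.ClW.br tr5 tr6 tr7) (CT.ClW.br tr8 tr9 tr10)) tr11 tr12) tr13 tr14) (CT.ClW.br tr15 tr16 tr17) (CT.ClW.br tr18 tr19 tr20)) (CT.ClW.br (CT.ClW.br tr21 tr22 tr23) (CT.ClW.br tr24 tr25 tr26) (CT.ClW.br tr27 tr28 tr29)) (CT.ClW.br (CT.ClW.br tr30 tr31 tr32) (CT.ClW.br tr33 tr34 tr35) (CT.ClW.br tr36 tr37 tr38)))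

theorem cover : ∀ x : PO, x ^ 3 = 1 → ∃ i, IsConj x (ev e ns (reps.getD i [])) :=
  fun _ hx => CT.cover mo hcs tree (k := 12) (by rw [cardP]; decide +kernel) [(1119, 2, [[0], [4], [6], [2], [18], [20], [22], [24], [26], [28], [30], [32]]),
 (1002, 2, [[4], [6], [2], [20], [22], [28]]),
 (988, 2, [[4], [6]])] (by decide +kernel) hx

theorem simple : IsSimpleGroup PO :=
  Class.Orth.isSimpleGroup_POmega _ _ (Class.Orth.plusQF_apply 4 (ZMod 3))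
    (Class.Orth.nd_plusQF 4 _) (by simp)

theorem ex_a : ∃ α : MulAut PO, CT.Tw e 1120 (wp ns [34]) α :=
  have := simple
  CT.exists_aut mo hE e blk 34 [[4], [2], [6], [0], [12], [10], [14], [8]] [0] 8 (by decide +kernel)

theorem ex_b : ∃ α : MulAut PO, CT.Tw e 1120 (wp ns [36]) α :=
  have := simple
  CT.exists_aut mo hE e blk 36 [[0], [2], [6], [4], [8], [10], [14], [12]] [0] 1 (by decide +kernel)

def ra : Fin 8 → Fin 8 := ![2, 1, 3, 0, 6, 5, 7, 4]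
def rb : Fin 8 → Fin 8 := ![0, 1, 3, 2, 4, 5, 7, 6]
def pa : Fin 13 → Fin 13 := ![0, 5, 6, 1, 2, 3, 4, 7, 9, 10, 8, 11, 12]
def pb : Fin 13 → Fin 13 := ![0, 1, 2, 5, 6, 3, 4, 7, 9, 8, 10, 11, 12]

def c1 : Fin 13 → ℕ := ![2916, 3024, 3051, 3159, 3159, 3240, 3240, 3267, 3267, 3267, 3294, 3294, 3294]
def c2 : Fin 13 → ℕ := ![972, 999, 999, 1080, 1080, 1080, 1080, 1098, 1107, 1107, 1107, 1107, 1116]

def ob : Fin 13 → Fin 7 := ![0, 1, 2, 1, 2, 1, 2, 3, 4, 4, 4, 5, 6]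
def rh : Fin 7 → Fin 13 := ![0, 1, 2, 7, 8, 11, 12]

/-- the representatives -/
noncomputable def rp (i : Fin 13) : List ℕ := reps.getD i []

/-- conjugation of words -/
noncomputable def cw (g r : List ℕ) : List ℕ := appendR (invW g) (appendR r g)

noncomputable def ga : List (List ℕ) :=
  [[], [50, 6, 4, 43, 49, 53, 51, 61, 63, 60, 76, 73, 84], [], [], [], [6, 52, 2, 75, 41, 56, 68, 73, 71, 84], [], [76, 2, 47, 51, 54, 74, 60, 74, 72, 85], [70, 5, 74, 40, 40, 69, 60, 76, 73, 73, 80], [10, 44, 46, 81, 53, 60, 68, 62, 77, 77, 79], [], [], [12, 7, 75, 59, 38, 71, 51, 62, 68, 79, 76, 79]]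

noncomputable def gb : List (List ℕ) :=
  [[], [10, 2, 57, 40, 62, 55, 50, 62, 60, 73, 84], [], [], [], [], [], [7, 5, 2, 44, 85, 56, 66, 63, 84, 70, 80], [70, 5, 74, 40, 40, 69, 60, 76, 73, 73, 80], [78, 5, 42, 57, 39, 74, 55, 65, 61, 72, 72, 85], [], [], []]

noncomputable def gi : List (List ℕ) :=
  [[15, 12, 2, 59, 47, 38, 58, 63, 61, 73, 71, 80], [10, 2, 57, 40, 62, 55, 50, 62, 60, 73, 84], [7, 67, 2, 43, 48, 41, 63, 52, 66, 64, 73, 81], [6, 52, 2, 75, 41, 56, 68, 73, 71, 84], [45, 5, 59, 42, 69, 52, 62, 65, 60, 84, 70, 81], [50, 6, 4, 43, 49, 53, 51, 61, 63, 60, 76, 73, 84], [15, 52, 5, 42, 73, 41, 50, 69, 62, 71, 76], [3, 73, 38, 38, 64, 52, 76, 68, 61, 78], [78, 5, 42, 57, 39, 74, 55, 65, 61, 72, 72, 85], [70, 5, 74, 40, 40, 69, 60, 76, 73, 73, 80], [10, 44, 46, 81, 53, 60, 68, 62, 77, 77, 79], [66, 6, 54, 41, 84, 50, 67, 69, 76, 73, 73, 80], [11, 40, 2, 48, 40, 38,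 50, 56, 68, 71, 81]]

theorem ta : ∀ i, CT.twB E bs KK 34 (rp i) (cw (ga.getD i []) (rp (pa i))) = true :=
  by decide +kernel

theorem tb : ∀ i, CT.twB E bs KK 36 (rp i) (cw (gb.getD i []) (rp (pb i))) = true :=
  by decide +kernel

theorem ti : ∀ i, q (invW (rp i)) (cw (gi.getD i []) (rp i)) = true :=
  by decide +kernel

theorem sa : ∀ j : Fin 8, CT.twB E bs KK 34 [2 * j] [2 * ra j] = true :=
  by decide +kernel

theorem sb : ∀ j : Fin 8, CT.twB E bs KK 36 [2 * j] [2 * rb j] = true :=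
  by decide +kernel

theorem t3 : ∀ i, and' (eqKn 4096 12 ns KK (powW (rp i) 3) []) (neK 4096 ns KK (rp i) (([50, 8, 8, 9, 9, 8, 8, 8, 8, 8, 8, 8, 3] : List ℕ).getD i 0)) = true :=
  by decide +kernel

theorem tc : ∀ i, inK KK (rp i) = true ∧ cntW 4096 12 ns (rp i) = c1 i ∧ CT.cntB 4096 12 ns 1120 (rp i) = c2 i :=
  by decide +kernel

end Cfsg.Agent.O83
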