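import Cfsg.Agent.O83.Pts

set_option autoImplicit false
set_option Elab.async false
set_option maxRecDepth 4096

namespace Cfsg.Agent.O83

open Cfsg.Agent.Comp

open Cfsg Cfsg.Agent.Comp.Kron Cfsg.Agent.Class
open scoped MatrixGroups
open scoped Pointwise

noncomputable def C0 : ℕ :=
  nat_lit 0x200000000000000000000000040000000000000000000000008000000000000000000001001000000000000000000000000200000000000000000000000040000000000000000000000008010000000000000000000001

theorem act0 : ∀ g : GL (Fin 4 ⊕ Fin 4) (ZMod 3), RepE ix (1 : ZMod 3) 11 8 8 3 C0 g → RepBy 3320 pt g (wp ns [0]) :=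
  fun _ hg => X.repBy_of_chkLine ctx hS hZ hg (t := 2) (by decide +kernel)

theorem rep0 : ∃ g ∈ isometryGroup (ZMod 3) (quadFormPlus 4 (ZMod 3)), RepBy 3320 pt g (wp ns [0]) :=
  by
  obtain ⟨g, hg⟩ := X.exists_repE' ho (C := C0) (nat_lit 0x200000000000000000000000040000000000000000000000008000000000000000000000801000000000000000000000000200000000000000000000000040000000000000000000000008020000000000000000000001) (by decide +kernel)
  have hm := X.coe_eq_matS hq hg
  exact ⟨g, mem_isometry_of (Orth.plusQF 4 (ZMod 3)) (Orth.plusQF_apply 4 (ZMod 3)) hm (by decide +kernel) (by decide +kernel), act0 g hg⟩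

theorem msk0 : RepBy 3320 (bitSet MS) (wp ns [0]) (wp ns [0]) :=
  repBy_of_chkMasks ctx ctx (by decide +kernel)

theorem rq0 : ∃ g ∈ isometryGroup (ZMod 3) (quadFormPlus 4 (ZMod 3)), RepBy 3320 pt2 g (wp ns [0]) :=
  by
  obtain ⟨g, a, b⟩ := rep0
  exact ⟨g, a, repBy_inc b msk0⟩

noncomputable def C1 : ℕ :=
  nat_lit 0x200000000000000000000000040000000000000000000008008000000000000000000000001000000000000000000000000200000000000000000000000040080000000000000000000008000000000000000000000001

theorem act1 : ∀ g : GL (Fin 4 ⊕ Fin 4) (ZMod 3), RepE ix (1 : ZMod 3) 11 8 8 3 C1 g → RepBy 3320 pt g (wp ns [2]) :=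
  fun _ hg => X.repBy_of_chkLine ctx hS hZ hg (t := 2) (by decide +kernel)

theorem rep1 : ∃ g ∈ isometryGroup (ZMod 3) (quadFormPlus 4 (ZMod 3)), RepBy 3320 pt g (wp ns [2]) :=
  by
  obtain ⟨g, hg⟩ := X.exists_repE' ho (C := C1) (nat_lit 0x200000000000000000000000040000000000000000000004008000000000000000000000001000000000000000000000000200000000000000000000000040100000000000000000000008000000000000000000000001) (by decide +kernel)
  have hm := X.coe_eq_matS hq hg
  exact ⟨g, mem_isometry_of (Orth.plusQF 4 (ZMod 3)) (Orth.plusQF_apply 4 (ZMod 3)) hm (by decide +kernel) (by decide +kernel), act1 g hg⟩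

theorem msk1 : RepBy 3320 (bitSet MS) (wp ns [2]) (wp ns [2]) :=
  repBy_of_chkMasks ctx ctx (by decide +kernel)

theorem rq1 : ∃ g ∈ isometryGroup (ZMod 3) (quadFormPlus 4 (ZMod 3)), RepBy 3320 pt2 g (wp ns [2]) :=
  by
  obtain ⟨g, a, b⟩ := rep1
  exact ⟨g, a, repBy_inc b msk1⟩

noncomputable def C2 : ℕ :=
  nat_lit 0x200000000000000000000040040000000000000000000000008000000000000000000000001000000000000000000000000200400000000000000000000040000000000000000000000008000000000000000000000001

theorem act2 : ∀ g : GL (Fin 4 ⊕ Fin 4) (ZMod 3), RepE ix (1 : ZMod 3) 11 8 8 3 C2 g → RepBy 3320 pt g (wp ns [4]) :=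
  fun _ hg => X.repBy_of_chkLine ctx hS hZ hg (t := 2) (by decide +kernel)

theorem rep2 : ∃ g ∈ isometryGroup (ZMod 3) (quadFormPlus 4 (ZMod 3)), RepBy 3320 pt g (wp ns [4]) :=
  by
  obtain ⟨g, hg⟩ := X.exists_repE' ho (C := C2) (nat_lit 0x200000000000000000000020040000000000000000000000008000000000000000000000001000000000000000000000000200800000000000000000000040000000000000000000000008000000000000000000000001) (by decide +kernel)
  have hm := X.coe_eq_matS hq hg
  exact ⟨g, mem_isometry_of (Orth.plusQF 4 (ZMod 3)) (Orth.plusQF_apply 4 (ZMod 3)) hm (by decide +kernel) (by decide +kernel), act2 g hg⟩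

theorem msk2 : RepBy 3320 (bitSet MS) (wp ns [4]) (wp ns [4]) :=
  repBy_of_chkMasks ctx ctx (by decide +kernel)

theorem rq2 : ∃ g ∈ isometryGroup (ZMod 3) (quadFormPlus 4 (ZMod 3)), RepBy 3320 pt2 g (wp ns [4]) :=
  by
  obtain ⟨g, a, b⟩ := rep2
  exact ⟨g, a, repBy_inc b msk2⟩

noncomputable def C3 : ℕ :=
  nat_lit 0x200000000000004000000000040000000400000000000000008000000000000000000000001000000000000000000000000200000000000000000000000040000000000000000000000008000000000000000000000001

theorem act3 : ∀ g : GL (Fin 4 ⊕ Fin 4) (ZMod 3), RepE ix (1 : ZMod 3) 11 8 8 3 C3 g → RepBy 3320 pt g (wp ns [6]) :=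
  fun _ hg => X.repBy_of_chkLine ctx hS hZ hg (t := 2) (by decide +kernel)

theorem rep3 : ∃ g ∈ isometryGroup (ZMod 3) (quadFormPlus 4 (ZMod 3)), RepBy 3320 pt g (wp ns [6]) :=
  by
  obtain ⟨g, hg⟩ := X.exists_repE' ho (C := C3) (nat_lit 0x200000000000008000000000040000000200000000000000008000000000000000000000001000000000000000000000000200000000000000000000000040000000000000000000000008000000000000000000000001) (by decide +kernel)
  have hm := X.coe_eq_matS hq hg
  exact ⟨g, mem_isometry_of (Orth.plusQF 4 (ZMod 3)) (Orth.plusQF_apply 4 (ZMod 3)) hm (by decide +kernel) (by decide +kernel), act3 g hg⟩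

theorem msk3 : RepBy 3320 (bitSet MS) (wp ns [6]) (wp ns [6]) :=
  repBy_of_chkMasks ctx ctx (by decide +kernel)

theorem rq3 : ∃ g ∈ isometryGroup (ZMod 3) (quadFormPlus 4 (ZMod 3)), RepBy 3320 pt2 g (wp ns [6]) :=
  by
  obtain ⟨g, a, b⟩ := rep3
  exact ⟨g, a, repBy_inc b msk3⟩

noncomputable def C4 : ℕ :=
  nat_lit 0x200000000000000000000000040000000000000000000000008020000000000000000000001000000000000000000000000200000000000000000000000040000000000000000000000008000000000000000000000801

theorem act4 : ∀ g : GL (Fin 4 ⊕ Fin 4) (ZMod 3), RepE ix (1 : ZMod 3) 11 8 8 3 C4 g → RepBy 3320 pt g (wp ns [8]) :=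
  fun _ hg => X.repBy_of_chkLine ctx hS hZ hg (t := 2) (by decide +kernel)

theorem rep4 : ∃ g ∈ isometryGroup (ZMod 3) (quadFormPlus 4 (ZMod 3)), RepBy 3320 pt g (wp ns [8]) :=
  by
  obtain ⟨g, hg⟩ := X.exists_repE' ho (C := C4) (nat_lit 0x200000000000000000000000040000000000000000000000008010000000000000000000001000000000000000000000000200000000000000000000000040000000000000000000000008000000000000000000001001) (by decide +kernel)
  have hm := X.coe_eq_matS hq hg
  exact ⟨g, mem_isometry_of (Orth.plusQF 4 (ZMod 3)) (Orth.plusQF_apply 4 (ZMod 3)) hm (by decide +kernel) (by decide +kernel), act4 g hg⟩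

theorem msk4 : RepBy 3320 (bitSet MS) (wp ns [8]) (wp ns [8]) :=
  repBy_of_chkMasks ctx ctx (by decide +kernel)

theorem rq4 : ∃ g ∈ isometryGroup (ZMod 3) (quadFormPlus 4 (ZMod 3)), RepBy 3320 pt2 g (wp ns [8]) :=
  by
  obtain ⟨g, a, b⟩ := rep4
  exact ⟨g, a, repBy_inc b msk4⟩

end Cfsg.Agent.O83
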