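import Cfsg.Agent.O83.Pts

set_option autoImplicit false
set_option Elab.async false
set_option maxRecDepth 4096

namespace Cfsg.Agent.O83

open Cfsg.Agent.Comp

open Cfsg Cfsg.Agent.Comp.Kron Cfsg.Agent.Class
open scoped MatrixGroups
open scoped Pointwise

noncomputable def C5 : ℕ :=
  nat_lit 0x200000000000000000000000040100000000000000000000008000000000000000000000001000000000000000000000000200000000000000000000000040000000000000000000004008000000000000000000000001

theorem act5 : ∀ g : GL (Fin 4 ⊕ Fin 4) (ZMod 3), RepE ix (1 : ZMod 3) 11 8 8 3 C5 g → RepBy 3320 pt g (wp ns [10]) :=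
  fun _ hg => X.repBy_of_chkLine ctx hS hZ hg (t := 2) (by decide +kernel)

theorem rep5 : ∃ g ∈ isometryGroup (ZMod 3) (quadFormPlus 4 (ZMod 3)), RepBy 3320 pt g (wp ns [10]) :=
  by
  obtain ⟨g, hg⟩ := X.exists_repE' ho (C := C5) (nat_lit 0x200000000000000000000000040080000000000000000000008000000000000000000000001000000000000000000000000200000000000000000000000040000000000000000000008008000000000000000000000001) (by decide +kernel)
  have hm := X.coe_eq_matS hq hg
  exact ⟨g, mem_isometry_of (Orth.plusQF 4 (ZMod 3)) (Orth.plusQF_apply 4 (ZMod 3)) hm (by decide +kernel) (by decide +kernel), act5 g hg⟩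

theorem msk5 : RepBy 3320 (bitSet MS) (wp ns [10]) (wp ns [10]) :=
  repBy_of_chkMasks ctx ctx (by decide +kernel)

theorem rq5 : ∃ g ∈ isometryGroup (ZMod 3) (quadFormPlus 4 (ZMod 3)), RepBy 3320 pt2 g (wp ns [10]) :=
  by
  obtain ⟨g, a, b⟩ := rep5
  exact ⟨g, a, repBy_inc b msk5⟩

noncomputable def C6 : ℕ :=
  nat_lit 0x200800000000000000000000040000000000000000000000008000000000000000000000001000000000000000000000000200000000000000000000020040000000000000000000000008000000000000000000000001

theorem act6 : ∀ g : GL (Fin 4 ⊕ Fin 4) (ZMod 3), RepE ix (1 : ZMod 3) 11 8 8 3 C6 g → RepBy 3320 pt g (wp ns [12]) :=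
  fun _ hg => X.repBy_of_chkLine ctx hS hZ hg (t := 2) (by decide +kernel)

theorem rep6 : ∃ g ∈ isometryGroup (ZMod 3) (quadFormPlus 4 (ZMod 3)), RepBy 3320 pt g (wp ns [12]) :=
  by
  obtain ⟨g, hg⟩ := X.exists_repE' ho (C := C6) (nat_lit 0x200400000000000000000000040000000000000000000000008000000000000000000000001000000000000000000000000200000000000000000000040040000000000000000000000008000000000000000000000001) (by decide +kernel)
  have hm := X.coe_eq_matS hq hg
  exact ⟨g, mem_isometry_of (Orth.plusQF 4 (ZMod 3)) (Orth.plusQF_apply 4 (ZMod 3)) hm (by decide +kernel) (by decide +kernel), act6 g hg⟩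

theorem msk6 : RepBy 3320 (bitSet MS) (wp ns [12]) (wp ns [12]) :=
  repBy_of_chkMasks ctx ctx (by decide +kernel)

theorem rq6 : ∃ g ∈ isometryGroup (ZMod 3) (quadFormPlus 4 (ZMod 3)), RepBy 3320 pt2 g (wp ns [12]) :=
  by
  obtain ⟨g, a, b⟩ := rep6
  exact ⟨g, a, repBy_inc b msk6⟩

noncomputable def C7 : ℕ :=
  nat_lit 0x200000000000000000000000040000000000000000000000008000000000000000000000001000000000000000080000000200000000002000000000000040000000000000000000000008000000000000000000000001

theorem act7 : ∀ g : GL (Fin 4 ⊕ Fin 4) (ZMod 3), RepE ix (1 : ZMod 3) 11 8 8 3 C7 g → RepBy 3320 pt g (wp ns [14]) :=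
  fun _ hg => X.repBy_of_chkLine ctx hS hZ hg (t := 2) (by decide +kernel)

theorem rep7 : ∃ g ∈ isometryGroup (ZMod 3) (quadFormPlus 4 (ZMod 3)), RepBy 3320 pt g (wp ns [14]) :=
  by
  obtain ⟨g, hg⟩ := X.exists_repE' ho (C := C7) (nat_lit 0x200000000000000000000000040000000000000000000000008000000000000000000000001000000000000000040000000200000000004000000000000040000000000000000000000008000000000000000000000001) (by decide +kernel)
  have hm := X.coe_eq_matS hq hg
  exact ⟨g, mem_isometry_of (Orth.plusQF 4 (ZMod 3)) (Orth.plusQF_apply 4 (ZMod 3)) hm (by decide +kernel) (by decide +kernel), act7 g hg⟩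

theorem msk7 : RepBy 3320 (bitSet MS) (wp ns [14]) (wp ns [14]) :=
  repBy_of_chkMasks ctx ctx (by decide +kernel)

theorem rq7 : ∃ g ∈ isometryGroup (ZMod 3) (quadFormPlus 4 (ZMod 3)), RepBy 3320 pt2 g (wp ns [14]) :=
  by
  obtain ⟨g, a, b⟩ := rep7
  exact ⟨g, a, repBy_inc b msk7⟩

noncomputable def C8 : ℕ :=
  nat_lit 0x200000000000000000000000080000000000000000000000008000000000000000000000002000000000000000000000000200000000000000000000000080000000000000000000000008000000000000000000000002

theorem act8 : ∀ g : GL (Fin 4 ⊕ Fin 4) (ZMod 3), RepE ix (1 : ZMod 3) 11 8 8 3 C8 g → RepBy 3320 pt g (wp ns [16]) :=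
  fun _ hg => X.repBy_of_chkLine ctx hS hZ hg (t := 2) (by decide +kernel)

theorem rep8 : ∃ g ∈ isometryGroup (ZMod 3) (quadFormPlus 4 (ZMod 3)), RepBy 3320 pt g (wp ns [16]) :=
  by
  obtain ⟨g, hg⟩ := X.exists_repE' ho (C := C8) (nat_lit 0x200000000000000000000000080000000000000000000000008000000000000000000000002000000000000000000000000200000000000000000000000080000000000000000000000008000000000000000000000002) (by decide +kernel)
  have hm := X.coe_eq_matS hq hg
  exact ⟨g, mem_isometry_of (Orth.plusQF 4 (ZMod 3)) (Orth.plusQF_apply 4 (ZMod 3)) hm (by decide +kernel) (by decide +kernel), act8 g hg⟩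

theorem msk8 : RepBy 3320 (bitSet MS) (wp ns [16]) (wp ns [16]) :=
  repBy_of_chkMasks ctx ctx (by decide +kernel)

theorem rq8 : ∃ g ∈ isometryGroup (ZMod 3) (quadFormPlus 4 (ZMod 3)), RepBy 3320 pt2 g (wp ns [16]) :=
  by
  obtain ⟨g, a, b⟩ := rep8
  exact ⟨g, a, repBy_inc b msk8⟩

end Cfsg.Agent.O83
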