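import Cfsg.Agent.O83.Model

set_option autoImplicit false
set_option Elab.async false
set_option maxRecDepth 4096

namespace Cfsg.Agent.O83

open Cfsg.Agent.Comp

theorem tr0 : CT.ClW e ns LL reps [24, 26, 28, 30, 32] [] :=
  CT.clW_of mo hE hqs (t := (.br (.br (.br (.br (.br (.lf 13 []) (.lf 0 []) (.lf 0 [15, 12, 2, 59, 47, 38, 58, 63, 61, 73, 71, 80])) (.mg [2] []
 (.lf 0 [38, 46, 2, 74, 49, 38, 78, 53, 62, 60, 79, 76])) (.mg [3] []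
 (.lf 0 [38, 2, 10, 46, 42, 40, 56, 78, 63, 78, 73, 70]))) (.mg [0] []
 (.mg [19] []
 (.lf 0 [53, 7, 2, 44, 56, 38, 82, 52, 73, 63, 73, 78]))) (.mg [1] []
 (.mg [18] []
 (.lf 0 [6, 58, 3, 46, 78, 56, 73, 64, 76, 78])))) (.br (.mg [4] []
 (.mg [20] []
 (.lf 0 [46, 5, 2, 43, 52, 38, 51, 51, 78, 65, 60, 72, 80]))) (.mg [0] []
 (.mg [19] []
 (.lf 4 []))) (.mg [1] []
 (.mg [18] []
 (.lf 3 [])))) (.br (.mg [5] []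
 (.mg [21] []
 (.lf 0 [7, 53, 2, 44, 78, 38, 59, 54, 67, 72, 77, 84]))) (.mg [0] []
 (.mg [19] []
 (.lf 3 [6, 52, 2, 75, 41, 56, 68, 73, 71, 84]))) (.mg [1] []
 (.mg [18] []
 (.lf 4 [45, 5, 59, 42, 69, 52, 62, 65, 60, 84, 70, 81]))))) (.br (.br (.mg [6] []
 (.mg [22] []
 (.lf 0 [5, 44, 6, 74, 43, 38, 64, 53, 67, 67, 85, 70, 85]))) (.mg [0] []
 (.mg [19] []
 (.lf 6 []))) (.mg [1] []
 (.mg [18] []
 (.lf 5 [])))) (.br (.mg [4] []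
 (.mg [20] []
 (.lf 2 []))) (.mg [0] []
 (.mg [19] []
 (.lf 11 []))) (.mg [1] []
 (.mg [18] []
 (.lf 10 [])))) (.br (.mg [5] []
 (.mg [21] []
 (.lf 1 []))) (.mg [0] []
 (.mg [19] []
 (.lf 8 []))) (.mg [1] []
 (.mg [18] []
 (.lf 9 []))))) (.br (.br (.mg [7] []
 (.mg [23] []
 (.lf 0 [67, 43, 2, 72, 43, 38, 64, 52, 66, 63, 81]))) (.mg [0] []
 (.mg [19] []
 (.lf 5 [50, 6, 4, 43, 49, 53, 51, 61, 63, 60, 76, 73, 84]))) (.mg [1] []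
 (.mg [18] []
 (.lf 6 [15, 52, 5, 42, 73, 41, 50, 69, 62, 71, 76])))) (.br (.mg [4] []
 (.mg [20] []
 (.lf 1 [10, 2, 57, 40, 62, 55, 50, 62, 60, 73, 84]))) (.mg [0] []
 (.mg [19] []
 (.lf 9 [70, 5, 74, 40, 40, 69, 60, 76, 73, 73, 80]))) (.mg [1] []
 (.mg [18] []
 (.lf 8 [78, 5, 42, 57, 39, 74, 55, 65, 61, 72, 72, 85])))) (.br (.mg [5] []
 (.mg [21] []
 (.lf 2 [7, 67, 2, 43, 48, 41, 63, 52, 66, 64, 73, 81]))) (.mg [0] []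
 (.mg [19] []
 (.lf 10 [10, 44, 46, 81, 53, 60, 68, 62, 77, 77, 79]))) (.mg [1] []
 (.mg [18] []
 (.lf 11 [66, 6, 54, 41, 84, 50, 67, 69, 76, 73, 73, 80]))))))) (by decide +kernel)

theorem tr1 : CT.ClW e ns LL reps [24, 26, 28, 30, 32] [22] :=
  CT.clW_of mo hE hqs (t := (.br (.mg [0] []
 (.mg [4] []
 (.br (.mg [25] []
 (.lf 0 [4, 57, 11, 44, 57, 38, 64, 50, 61, 67, 76, 71, 81])) (.mg [2] []
 (.lf 3 [51, 6, 45, 43, 81, 56, 67, 72, 77, 85])) (.mg [3] []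
 (.lf 4 [5, 54, 2, 55, 44, 38, 52, 50, 64, 70, 77, 84]))))) (.mg [0] []
 (.mg [4] []
 (.mg [6] []
 (.mg [22] []
 (.lf 7 []))))) (.mg [0] []
 (.mg [4] []
 (.mg [7] []
 (.mg [23] []
 (.lf 7 [11, 40, 2, 73, 46, 64, 53, 79, 63, 78, 73, 70, 85]))))))) (by decide +kernel)

theorem tr2 : CT.ClW e ns LL reps [24, 26, 28, 30, 32] [23] :=
  CT.clW_of mo hE hqs (t := (.br (.mg [1] []
 (.mg [5] []
 (.br (.mg [24] []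
 (.lf 0 [52, 3, 48, 40, 38, 55, 83, 62, 73, 73, 81])) (.mg [2] []
 (.lf 4 [11, 53, 3, 62, 46, 79, 51, 78, 63, 85, 70, 82])) (.mg [3] []
 (.lf 3 [46, 2, 54, 53, 38, 65, 56, 65, 61, 76, 78]))))) (.mg [1] []
 (.mg [5] []
 (.mg [6] []
 (.mg [22] []
 (.lf 7 [61, 11, 2, 77, 41, 69, 52, 79, 70, 84]))))) (.mg [1] []
 (.mg [5] []
 (.mg [7] []
 (.mg [23] []
 (.lf 7 [40, 51, 38, 64, 53, 76, 65, 60, 73, 78]))))))) (by decide +kernel)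

theorem tr3 : CT.ClW e ns LL reps [22, 24, 26, 28, 30, 32] [20] :=
  CT.clW_of mo hE hqs (t := (.br (.mg [0] []
 (.br (.mg [6] []
 (.br (.mg [27] []
 (.lf 0 [10, 47, 2, 81, 39, 58, 57, 77, 67, 82])) (.mg [2] []
 (.lf 5 [78, 3, 47, 47, 43, 65, 53, 66, 64, 74, 72, 80])) (.mg [3] []
 (.lf 6 [7, 5, 49, 38, 38, 78, 56, 76, 68, 61, 72, 84])))) (.mg [6] []
 (.mg [4] []
 (.mg [20] []
 (.lf 7 [7, 5, 2, 44, 85, 56, 66, 63, 84, 70, 80])))) (.mg [6] []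
 (.mg [5] []
 (.mg [21] []
 (.lf 7 [3, 54, 51, 38, 57, 66, 66, 77, 73, 82])))))) (.mg [0] [26, 33]
 (.br (.mg [4] []
 (.br (.mg [25] []
 (.lf 2 [70, 3, 42, 60, 39, 53, 76, 63, 77, 83])) (.mg [2] []
 (.lf 10 [65, 3, 80, 47, 71, 57, 62, 69, 60, 76, 71, 78])) (.mg [3] []
 (.lf 11 [66, 7, 66, 49, 69, 53, 63, 60, 72, 77, 81])))) (.mg [6] []
 (.mg [4, 7] []
 (.mg [20] []
 (.lf 7 [15, 5, 2, 45, 43, 84, 57, 68, 62, 71, 79])))) (.mg [6] []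
 (.mg [5, 6] []
 (.mg [21] []
 (.lf 7 [1, 3, 65, 41, 79, 53, 71, 65, 60, 79, 76, 80])))))) (.mg [0] [27, 32]
 (.br (.mg [5] []
 (.br (.mg [24] []
 (.lf 1 [6, 67, 2, 77, 41, 75, 52, 67, 62, 71, 72, 81])) (.mg [2] []
 (.lf 9 [11, 57, 3, 76, 45, 57, 79, 62, 77, 70, 84])) (.mg [3] []
 (.lf 8 [4, 73, 2, 53, 38, 38, 71, 57, 64, 76, 71, 83])))) (.mg [6] []
 (.mg [4, 6] []
 (.mg [20] []
 (.lf 7 [5, 54, 2, 45, 56, 38, 57, 52, 68, 67, 77, 70])))) (.mg [6] []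
 (.mg [5, 7] []
 (.mg [21] []
 (.lf 7 [1, 3, 66, 49, 81, 50, 67, 62, 79, 76])))))))) (by decide +kernel)

theorem tr4 : CT.ClW e ns LL reps [22, 24, 26, 28, 30, 32] [21] :=
  CT.clW_of mo hE hqs (t := (.br (.mg [1] []
 (.br (.mg [7] []
 (.br (.mg [26] []
 (.lf 0 [4, 54, 4, 57, 48, 65, 50, 74, 62])) (.mg [2] []
 (.lf 6 [10, 47, 2, 70, 44, 39, 61, 51, 67, 69, 71])) (.mg [3] []
 (.lf 5 [62, 11, 2, 57, 46, 38, 52, 63, 61, 73, 73, 81])))) (.mg [7] []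
 (.mg [4] []
 (.mg [20] []
 (.lf 7 [2, 40, 40, 66, 68, 72, 79])))) (.mg [7] []
 (.mg [5] []
 (.mg [21] []
 (.lf 7 [7, 5, 40, 46, 40, 68, 53, 79, 60, 60, 73, 84])))))) (.mg [1] [27, 33]
 (.br (.mg [4] []
 (.br (.mg [25] []
 (.lf 1 [2, 10, 2, 62, 39, 61, 50, 83, 60, 72, 77, 78])) (.mg [2] []
 (.lf 8 [13, 73, 2, 38, 68, 52, 60, 60, 60, 73, 70, 85])) (.mg [3] []
 (.lf 9 [68, 11, 2, 81, 44, 51, 51, 66, 70, 85])))) (.mg [7] []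
 (.mg [4, 6] []
 (.mg [20] []
 (.lf 7 [2, 44, 78, 59, 73, 69, 76, 71, 79])))) (.mg [7] []
 (.mg [5, 7] []
 (.mg [21] []
 (.lf 7 [7, 5, 59, 61, 38, 54, 51, 72, 62, 84, 70, 84])))))) (.mg [1] [26, 32]
 (.br (.mg [5] []
 (.br (.mg [24] []
 (.lf 2 [11, 40, 2, 58, 38, 82, 50, 73, 63, 77, 80])) (.mg [2] []
 (.lf 11 [64, 3, 40, 45, 40, 59, 54, 69, 62, 61, 70, 81])) (.mg [3] []
 (.lf 10 [72, 2, 61, 47, 54, 85, 60, 85, 73, 70])))) (.mg [7] []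
 (.mg [4, 7] []
 (.mg [20] []
 (.lf 7 [3, 78, 44, 39, 62, 67, 70, 77, 81])))) (.mg [7] []
 (.mg [5, 6] []
 (.mg [21] []
 (.lf 7 [11, 40, 2, 72, 44, 52, 52, 65, 60, 71, 72])))))))) (by decide +kernel)

theorem tr5 : CT.ClW e ns LL reps [22, 24, 26, 28, 30, 32] [18] :=
  CT.clW_of mo hE hqs (t := (.br (.mg [5] []
 (.mg [7] []
 (.br (.br (.mg [28] []
 (.lf 0 [39, 11, 83, 48, 85, 56, 61, 71, 60, 74, 72, 80])) (.mg [2] []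
 (.lf 2 [71, 2, 59, 44, 69, 55, 60, 60, 60, 71, 72, 84])) (.mg [3] []
 (.lf 1 [6, 62, 3, 84, 54, 38, 62, 50, 65, 60, 73, 70, 79]))) (.mg [0] []
 (.mg [19] []
 (.lf 7 [5, 68, 38, 38, 64, 52, 77, 68, 72, 77, 78]))) (.mg [1] []
 (.mg [18] []
 (.lf 7 [77, 2, 43, 79, 53, 66, 66, 79, 70, 81])))))) (.mg [5] [29, 33]
 (.mg [0] []
 (.br (.br (.mg [25] []
 (.lf 5 [39, 14, 63, 43, 69, 51, 60, 65, 62, 73, 71, 82])) (.mg [2] []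
 (.lf 10 [66, 10, 2, 51, 45, 70, 53, 63, 69, 61, 76, 81])) (.mg [3] []
 (.lf 9 [10, 4, 2, 41, 68, 84, 70]))) (.mg [0, 6] []
 (.mg [19] []
 (.lf 7 [54, 47, 39, 55, 51, 72, 63, 60, 71, 72, 83]))) (.mg [1, 7] []
 (.mg [18] []
 (.lf 7 [7, 67, 2, 74, 40, 40, 82, 68, 60, 79, 70])))))) (.mg [5] [28, 32]
 (.mg [1] []
 (.br (.br (.mg [24] []
 (.lf 6 [13, 77, 2, 51, 49, 63, 50, 63, 60, 73, 81])) (.mg [2] []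
 (.lf 11 [10, 6, 51, 44, 73, 56, 60, 76, 73, 73, 84])) (.mg [3] []
 (.lf 8 [7, 57, 44, 84, 50, 60, 62, 73, 73, 80]))) (.mg [0, 7] []
 (.mg [19] []
 (.lf 7 [65, 7, 57, 40, 38, 79, 52, 63, 76, 71, 81]))) (.mg [1, 6] []
 (.mg [18] []
 (.lf 7 [79, 10, 2, 47, 69, 39, 51, 54, 73, 66, 71, 80])))))))) (by decide +kernel)

theorem tr6 : CT.ClW e ns LL reps [22, 24, 26, 28, 30, 32] [18, 20] :=
  CT.clW_of mo hE hqs (t := (.br (.mg [0] []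
 (.mg [7] [29, 33]
 (.br (.br (.mg [27] []
 (.lf 3 [15, 49, 4, 72, 49, 55, 72, 62, 72, 70, 78])) (.mg [2] []
 (.lf 10 [71, 3, 78, 43, 38, 68, 50, 62, 69, 77, 77])) (.mg [3] []
 (.lf 8 [47, 1, 2, 72, 42, 52, 71, 66, 72, 85]))) (.mg [0, 4] []
 (.mg [19] []
 (.lf 7 [13, 77, 2, 38, 42, 61, 51, 66, 72, 72, 82]))) (.mg [1, 5] []
 (.mg [18] []
 (.lf 7 [53, 10, 54, 47, 39, 50, 50, 70, 66, 70, 77, 84])))))) (.mg [0] [26, 33]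
 (.mg [7] [29, 33]
 (.mg [1, 5, 7] [30, 33]
 (.br (.mg [25] []
 (.lf 10 [82, 10, 41, 39, 79, 50, 80, 60, 60, 76, 82])) (.mg [2] []
 (.lf 12 [])) (.mg [3] []
 (.lf 7 [12, 78, 2, 42, 41, 59, 52, 71, 69, 76, 79])))))) (.mg [0] [27, 32]
 (.mg [7] [29, 33]
 (.mg [0, 4, 7] [31, 33]
 (.br (.mg [24] []
 (.lf 8 [68, 14, 70, 44, 40, 84, 50, 82, 68, 60, 77, 70, 79])) (.mg [2] []
 (.lf 7 [12, 76, 3, 44, 38, 38, 64, 53, 50, 68, 60, 77, 78])) (.mg [3] []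
 (.lf 12 [12, 7, 2, 58, 47, 62, 50, 77, 67, 70, 77, 81])))))))) (by decide +kernel)

theorem tr7 : CT.ClW e ns LL reps [22, 24, 26, 28, 30, 32] [18, 21] :=
  CT.clW_of mo hE hqs (t := (.br (.mg [1] []
 (.mg [7] [28, 32]
 (.br (.br (.mg [26] []
 (.lf 4 [68, 2, 63, 47, 81, 56, 65, 66, 73, 73])) (.mg [2] []
 (.lf 11 [4, 2, 63, 47, 78, 59, 61, 78, 63, 85, 70])) (.mg [3] []
 (.lf 9 [74, 10, 3, 62, 39, 78, 59, 82, 65, 60, 77, 82]))) (.mg [0, 5] []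
 (.mg [19] []
 (.lf 7 [6, 38, 2, 56, 46, 38, 50, 66, 72, 60, 72, 72, 81]))) (.mg [1, 4] []
 (.mg [18] []
 (.lf 7 [1, 2, 82, 39, 71, 66, 73, 81])))))) (.mg [1] [27, 33]
 (.mg [7] [28, 32]
 (.mg [0, 5, 6] [31, 33]
 (.br (.mg [25] []
 (.lf 9 [57, 3, 40, 85, 38, 67, 58, 85, 66, 76, 73, 78])) (.mg [2] []
 (.lf 7 [14, 63, 2, 42, 46, 65, 56, 60, 68, 62, 85])) (.mg [3] []
 (.lf 12 [54, 10, 3, 48, 46, 40, 64, 54, 82, 68, 60, 77, 73])))))) (.mg [1] [26, 32]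
 (.mg [7] [28, 32]
 (.mg [1, 4, 6] [30, 33]
 (.br (.mg [24] []
 (.lf 11 [6, 68, 3, 71, 46, 53, 78, 64, 60, 84, 70, 82])) (.mg [2] []
 (.lf 12 [14, 12, 82, 44, 50, 78, 66, 79, 70, 83])) (.mg [3] []
 (.lf 7 [14, 4, 2, 66, 40, 63, 52, 79, 63, 73, 85])))))))) (by decide +kernel)

theorem tr8 : CT.ClW e ns LL reps [22, 24, 26, 28, 30, 32] [19] :=
  CT.clW_of mo hE hqs (t := (.br (.mg [4] []
 (.mg [6] []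
 (.br (.br (.mg [29] []
 (.lf 0 [12, 54, 5, 75, 56, 38, 63, 50, 73, 64, 82, 70])) (.mg [2] []
 (.lf 1 [67, 2, 68, 43, 38, 68, 50, 76, 63, 74, 72, 79])) (.mg [3] []
 (.lf 2 [14, 60, 5, 39, 78, 59, 73, 60, 60, 72, 70, 84]))) (.mg [0] []
 (.mg [19] []
 (.lf 7 [76, 2, 47, 51, 54, 74, 60, 74, 72, 85]))) (.mg [1] []
 (.mg [18] []
 (.lf 7 [5, 63, 43, 57, 52, 66, 66, 77, 73, 84])))))) (.mg [4] [28, 33]
 (.mg [0] []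
 (.br (.br (.mg [25] []
 (.lf 6 [68, 53, 2, 57, 38, 69, 53, 68, 66, 77, 73])) (.mg [2] []
 (.lf 8 [7, 4, 2, 43, 56, 40, 56, 70, 60, 77, 77, 84])) (.mg [3] []
 (.lf 11 [57, 14, 4, 45, 40, 39, 83, 52, 62, 65, 60, 83]))) (.mg [0, 7] []
 (.mg [19] []
 (.lf 7 [11, 40, 2, 43, 38, 68, 50, 64, 70, 78]))) (.mg [1, 6] []
 (.mg [18] []
 (.lf 7 [64, 10, 79, 42, 57, 52, 71, 66, 82])))))) (.mg [4] [29, 32]
 (.mg [1] []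
 (.br (.br (.mg [24] []
 (.lf 5 [78, 2, 76, 42, 53, 64, 60, 77, 81])) (.mg [2] []
 (.lf 9 [4, 3, 56, 69, 38, 84, 57, 68, 63, 73, 83])) (.mg [3] []
 (.lf 10 [78, 4, 45, 78, 40, 62, 55, 50, 61, 67, 70, 83]))) (.mg [0, 6] []
 (.mg [19] []
 (.lf 7 [7, 67, 2, 43, 41, 83, 52, 68, 63, 79, 70, 84]))) (.mg [1, 7] []
 (.mg [18] []
 (.lf 7 [44, 41, 81, 50, 66, 76, 60, 78, 73, 70, 80])))))))) (by decide +kernel)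

theorem tr9 : CT.ClW e ns LL reps [22, 24, 26, 28, 30, 32] [19, 20] :=
  CT.clW_of mo hE hqs (t := (.br (.mg [0] []
 (.mg [6] [28, 33]
 (.br (.br (.mg [27] []
 (.lf 4 [58, 2, 69, 38, 64, 52, 71, 66, 76, 73, 73])) (.mg [2] []
 (.lf 9 [10, 51, 45, 70, 53, 69, 63, 77, 73])) (.mg [3] []
 (.lf 11 [4, 80, 4, 39, 43, 39, 62, 50, 63, 60, 72, 81]))) (.mg [0, 5] []
 (.mg [19] []
 (.lf 7 [1, 2, 77, 60, 73, 84]))) (.mg [1, 4] []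
 (.mg [18] []
 (.lf 7 [14, 60, 2, 71, 40, 79, 76, 83])))))) (.mg [0] [26, 33]
 (.mg [6] [28, 33]
 (.mg [0, 5, 7] [31, 32]
 (.br (.mg [25] []
 (.lf 11 [68, 4, 61, 48, 75, 53, 72, 66, 72, 77])) (.mg [2] []
 (.lf 7 [12, 6, 3, 46, 42, 40, 66, 54, 75, 60, 73, 85])) (.mg [3] []
 (.lf 12 [4, 76, 3, 45, 43, 57, 50, 72, 62, 61, 72, 83])))))) (.mg [0] [27, 32]
 (.mg [6] [28, 33]
 (.mg [1, 4, 7] [30, 32]
 (.br (.mg [24] []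
 (.lf 9 [0, 2, 58, 40, 40, 55, 77, 68, 76, 73, 85])) (.mg [2] []
 (.lf 12 [78, 14, 45, 38, 81, 53, 72, 60, 84])) (.mg [3] []
 (.lf 7 [4, 78, 2, 56, 50, 38, 65, 54, 67, 61, 77, 80])))))))) (by decide +kernel)

theorem tr10 : CT.ClW e ns LL reps [22, 24, 26, 28, 30, 32] [19, 21] :=
  CT.clW_of mo hE hqs (t := (.br (.mg [1] []
 (.mg [6] [29, 32]
 (.br (.br (.mg [26] []
 (.lf 3 [39, 6, 60, 46, 39, 61, 54, 50, 60, 73, 73, 82])) (.mg [2] []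
 (.lf 8 [75, 11, 2, 44, 66, 38, 58, 71, 66, 76, 85])) (.mg [3] []
 (.lf 10 [77, 10, 3, 51, 47, 69, 55, 69, 60, 85]))) (.mg [0, 4] []
 (.mg [19] []
 (.lf 7 [14, 40, 40, 77, 69, 74, 72, 81]))) (.mg [1, 5] []
 (.mg [18] []
 (.lf 7 [15, 5, 2, 51, 44, 55, 50, 63, 70, 60, 74, 72, 84])))))) (.mg [1] [27, 33]
 (.mg [6] [29, 32]
 (.mg [1, 5, 6] [30, 32]
 (.br (.mg [25] []
 (.lf 8 [11, 40, 38, 63, 50, 67, 67, 71, 76])) (.mg [2] []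
 (.lf 12 [12, 7, 75, 59, 38, 71, 51, 62, 68, 79, 76, 79])) (.mg [3] []
 (.lf 7 [6, 4, 62, 40, 38, 68, 51, 69, 63, 76, 80])))))) (.mg [1] [26, 32]
 (.mg [6] [29, 32]
 (.mg [0, 4, 6] [31, 32]
 (.br (.mg [24] []
 (.lf 10 [43, 6, 45, 40, 65, 54, 66, 60, 71, 72, 81])) (.mg [2] []
 (.lf 7 [14, 38, 3, 63, 45, 69, 56, 72, 60, 84, 70, 83])) (.mg [3] []
 (.lf 12 [11, 40, 2, 48, 40, 38, 50, 56, 68, 71, 81])))))))) (by decide +kernel)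

theorem tr11 : CT.ClW e ns LL reps [18, 20, 22, 24, 26, 28, 30, 32] [2] :=
  CT.clW_of mo hE hqs (t := (.mg [0] []
 (.mg [5] []
 (.mg [7] []
 (.br (.br (.br (.br (.mg [31] []
 (.lf 0 [44, 14, 4, 2, 83, 50, 38, 56, 64, 67, 77, 82])) (.mg [2] []
 (.lf 7 [7, 1, 2, 54, 39, 77, 51, 60, 60, 70, 78])) (.mg [3] []
 (.lf 7 [5, 2, 55, 42, 59, 54, 73, 69, 73, 73, 84]))) (.br (.mg [19] []
 (.lf 2 [5, 38, 41, 52, 62, 68, 72, 70])) (.mg [2] []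
 (.lf 7 [78, 3, 45, 43, 78, 59, 62, 69, 60, 72, 72])) (.mg [3] []
 (.lf 7 [5, 40, 48, 68, 52, 68, 64, 76, 73, 70, 79]))) (.br (.mg [18] []
 (.lf 1 [70, 11, 3, 58, 46, 78, 59, 74, 60, 79, 76, 82])) (.mg [2] []
 (.lf 7 [47, 2, 38, 83, 52, 60, 60, 60, 71, 81])) (.mg [3] []
 (.lf 7 [38, 2, 47, 55, 38, 63, 58, 62, 70, 84])))) (.br (.br (.mg [20] []
 (.lf 6 [70, 5, 80, 47, 54, 62, 68, 60, 76, 73, 81])) (.mg [2] []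
 (.lf 7 [11, 40, 2, 42, 40, 68, 53, 67, 62, 60, 71, 80])) (.mg [3] []
 (.lf 7 [4, 2, 68, 40, 68, 53, 78, 66, 76, 71, 82]))) (.br (.mg [19] []
 (.lf 11 [71, 3, 79, 39, 67, 50, 72, 66, 82, 70, 85])) (.mg [2] []
 (.lf 7 [38, 2, 82, 47, 68, 50, 82, 60, 71, 85])) (.mg [3] []
 (.lf 7 [14, 63, 2, 78, 38, 78, 56, 70, 66, 73, 73, 81]))) (.br (.mg [18] []
 (.lf 8 [73, 5, 78, 47, 57, 50, 65, 66, 73, 73, 78])) (.mg [2] []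
 (.lf 7 [40, 11, 3, 59, 42, 50, 67, 62, 73, 82])) (.mg [3] []
 (.lf 7 [12, 7, 46, 43, 38, 70, 58, 60, 60, 71, 82])))) (.br (.br (.mg [21] []
 (.lf 5 [55, 3, 11, 57, 49, 79, 52, 81, 60, 72, 77, 84])) (.mg [2] []
 (.lf 7 [12, 7, 2, 77, 46, 70, 58, 70, 66, 70, 80])) (.mg [3] []
 (.lf 7 [0, 3, 41, 53, 72, 60, 73, 71, 78]))) (.br (.mg [19] []
 (.lf 10 [68, 3, 71, 41, 38, 78, 56, 67, 62, 77, 73, 84])) (.mg [2] []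
 (.lf 7 [14, 12, 3, 81, 38, 38, 55, 51, 83, 60, 85, 70])) (.mg [3] []
 (.lf 7 [78, 3, 60, 46, 70, 59, 78, 66, 70, 77, 80]))) (.br (.mg [18] []
 (.lf 9 [13, 69, 2, 40, 48, 67, 50, 77, 68, 79, 70, 85])) (.mg [2] []
 (.lf 7 [38, 5, 58, 44, 38, 63, 56, 71, 66])) (.mg [3] []
 (.lf 7 [78, 2, 56, 39, 85, 56, 60, 66, 70, 77, 80]))))) (.br (.br (.br (.mg [22] []
 (.lf 4 [75, 2, 46, 45, 39, 79, 53, 75, 62, 60])) (.mg [2] []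
 (.lf 7 [1, 3, 73, 46, 70, 58, 61, 71, 60, 79, 76])) (.mg [3] []
 (.lf 7 [14, 5, 2, 60, 44, 83, 52, 64, 70, 60, 79, 70]))) (.br (.mg [19] []
 (.lf 11 [75, 5, 40, 40, 38, 61, 52, 60, 60, 76, 71, 85])) (.mg [2] []
 (.lf 7 [60, 2, 58, 48, 64, 51, 63, 60, 76, 73, 83])) (.mg [3] []
 (.lf 7 [77, 10, 3, 60, 45, 51, 69, 63, 72, 72, 70, 83]))) (.br (.mg [18] []
 (.lf 9 [68, 14, 53, 42, 69, 53, 78, 65, 60, 76])) (.mg [2] []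
 (.lf 7 [4, 68, 45, 64, 51, 69, 62, 61, 80])) (.mg [3] []
 (.lf 7 [54, 3, 50, 40, 61, 52, 76, 66, 84, 70, 83])))) (.br (.br (.mg [20] []
 (.lf 11 [5, 57, 3, 49, 42, 67, 50, 67, 76, 73, 85])) (.mg [2] []
 (.lf 7 [38, 2, 68, 45, 53, 78, 62, 76])) (.mg [3] []
 (.lf 7 [69, 10, 3, 85, 38, 68, 53, 82, 60, 60, 85, 70, 79]))) (.br (.mg [19] []
 (.lf 12 [14, 12, 2, 72, 48, 85, 56, 68, 67, 70, 82])) (.mg [2] []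
 (.lf 11 [51, 4, 2, 50, 38, 68, 52, 60, 63, 78, 73, 70, 80])) (.mg [3] []
 (.lf 11 [10, 38, 2, 72, 39, 39, 60, 56, 69, 62, 82]))) (.br (.mg [18] []
 (.lf 7 [12, 6, 71, 43, 61, 54, 50, 81, 60, 71, 76, 81])) (.mg [2] []
 (.lf 12 [47, 2, 40, 43, 51, 51, 63, 70, 77])) (.mg [3] []
 (.lf 12 [77, 10, 3, 61, 43, 59, 53, 78, 66, 73, 73, 78])))) (.br (.br (.mg [21] []
 (.lf 9 [69, 10, 40, 44, 85, 56, 65, 67, 85, 70, 82])) (.mg [2] []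
 (.lf 7 [38, 5, 54, 41, 50, 66, 76, 60, 76, 71, 84])) (.mg [3] []
 (.lf 7 [77, 3, 76, 39, 78, 59, 65, 63, 77, 81]))) (.br (.mg [19] []
 (.lf 7 [6, 61, 5, 68, 42, 62, 51, 64, 67, 77, 82])) (.mg [2] []
 (.lf 12 [58, 10, 82, 45, 50, 56, 80, 60, 71, 82])) (.mg [3] []
 (.lf 12 [12, 6, 79, 47, 56, 54, 62, 77, 60, 79, 70, 83]))) (.br (.mg [18] []
 (.lf 12 [69, 10, 46, 64, 38, 63, 50, 64, 85, 70, 79])) (.mg [2] []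
 (.lf 9 [14, 60, 2, 62, 39, 70, 53, 74, 66, 73, 71, 82])) (.mg [3] []
 (.lf 9 [12, 7, 53, 47, 38, 64, 53, 50, 69, 62, 73, 73, 82]))))) (.br (.br (.br (.mg [23] []
 (.lf 3 [10, 55, 10, 46, 40, 79, 52, 63, 73, 73])) (.mg [2] []
 (.lf 7 [78, 2, 46, 70, 58, 61, 73, 70, 85])) (.mg [3] []
 (.lf 7 [84, 11, 2, 53, 48, 82, 52, 66, 60, 77, 70, 80]))) (.br (.mg [19] []
 (.lf 10 [63, 10, 76, 41, 79, 51, 63, 61, 85, 73, 70])) (.mg [2] []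
 (.lf 7 [83, 6, 5, 48, 39, 84, 57, 66, 82, 70, 82])) (.mg [3] []
 (.lf 7 [7, 44, 48, 53, 51, 70, 66, 60, 76, 73, 70, 78]))) (.br (.mg [18] []
 (.lf 8 [38, 6, 59, 44, 52, 52, 68, 73, 70])) (.mg [2] []
 (.lf 7 [6, 5, 39, 51, 38, 64, 53, 60, 62, 84])) (.mg [3] []
 (.lf 7 [7, 4, 45, 46, 81, 50, 72, 60, 81])))) (.br (.br (.mg [20] []
 (.lf 8 [38, 5, 41, 43, 52, 52, 74, 62, 73, 70, 80])) (.mg [2] []
 (.lf 7 [14, 5, 53, 40, 81, 50, 82, 70, 80])) (.mg [3] []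
 (.lf 7 [12, 47, 2, 64, 43, 63, 58, 78, 62, 73, 71, 79]))) (.br (.mg [19] []
 (.lf 7 [12, 76, 3, 48, 46, 84, 50, 61, 61, 71])) (.mg [2] []
 (.lf 12 [38, 2, 58, 40, 38, 79, 50, 85, 66, 74, 72])) (.mg [3] []
 (.lf 12 [14, 4, 2, 46, 53, 38, 56, 55, 77, 66, 78]))) (.br (.mg [18] []
 (.lf 12 [7, 62, 2, 63, 38, 71, 65, 60, 73, 79])) (.mg [2] []
 (.lf 8 [12, 7, 43, 40, 51, 57, 61, 63, 60, 73, 81])) (.mg [3] []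
 (.lf 8 [78, 14, 49, 40, 38, 60, 51, 64, 66])))) (.br (.br (.mg [21] []
 (.lf 10 [83, 6, 5, 71, 40, 66, 72, 60, 71, 72])) (.mg [2] []
 (.lf 7 [14, 65, 7, 85, 45, 63, 50, 69, 63, 77, 84])) (.mg [3] []
 (.lf 7 [7, 2, 55, 48, 59, 64, 76, 83]))) (.br (.mg [19] []
 (.lf 12 [1, 3, 63, 40, 40, 64, 52, 78, 63, 77])) (.mg [2] []
 (.lf 10 [66, 11, 3, 63, 55, 38, 74, 55, 74, 60, 76, 82])) (.mg [3] []
 (.lf 10 [12, 76, 3, 67, 40, 53, 51, 67, 61, 85, 70, 78]))) (.br (.mg [18] []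
 (.lf 7 [40, 11, 2, 78, 47, 79, 52, 61, 61, 77, 85])) (.mg [2] []
 (.lf 12 [7, 68, 45, 52, 62, 68, 60, 71, 80])) (.mg [3] []
 (.lf 12 [14, 12, 2, 54, 47, 60, 50, 67, 62, 60, 71, 81])))))))))) (by decide +kernel)

theorem tr12 : CT.ClW e ns LL reps [18, 20, 22, 24, 26, 28, 30, 32] [3] :=
  CT.clW_of mo hE hqs (t := (.mg [1] []
 (.mg [4] []
 (.mg [6] []
 (.br (.br (.br (.br (.mg [30] []
 (.lf 0 [54, 12, 2, 46, 42, 50, 56, 65, 60, 77, 73, 81])) (.mg [2] []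
 (.lf 7 [60, 2, 58, 48, 60, 51, 73, 69, 73, 73, 81])) (.mg [3] []
 (.lf 7 [54, 2, 42, 39, 65, 54, 60, 65, 62, 74, 72, 81]))) (.br (.mg [19] []
 (.lf 1 [14, 11, 3, 66, 47, 73, 54, 78, 62, 71, 72])) (.mg [2] []
 (.lf 7 [5, 2, 51, 47, 70, 56, 73, 69, 80])) (.mg [3] []
 (.lf 7 [76, 2, 40, 45, 81, 56, 72, 66, 73, 71, 78]))) (.br (.mg [18] []
 (.lf 2 [72, 11, 2, 81, 43, 81, 50, 76, 68, 61, 70, 81])) (.mg [2] []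
 (.lf 7 [60, 2, 69, 42, 70, 58, 68, 68, 60, 73, 73])) (.mg [3] []
 (.lf 7 [77, 2, 61, 44, 54, 50, 65, 67])))) (.br (.br (.mg [20] []
 (.lf 5 [49, 3, 11, 46, 39, 54, 75, 66, 70, 77, 83])) (.mg [2] []
 (.lf 7 [53, 47, 83, 52, 60, 60, 60, 77, 70, 85])) (.mg [3] []
 (.lf 7 [7, 4, 68, 41, 78, 59, 73, 66, 76, 73, 84]))) (.br (.mg [19] []
 (.lf 9 [6, 59, 4, 43, 39, 51, 54, 71, 66, 72, 70, 81])) (.mg [2] []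
 (.lf 7 [76, 3, 47, 66, 54, 64, 60, 85, 70, 85])) (.mg [3] []
 (.lf 7 [64, 10, 76, 46, 38, 56, 62, 79, 76, 81]))) (.br (.mg [18] []
 (.lf 10 [80, 4, 59, 44, 59, 53, 67, 60, 60, 74, 72, 81])) (.mg [2] []
 (.lf 7 [7, 53, 47, 39, 65, 50, 75, 62, 60, 71, 76, 84])) (.mg [3] []
 (.lf 7 [83, 6, 5, 43, 40, 66, 54, 67, 69, 76, 73, 84])))) (.br (.br (.mg [21] []
 (.lf 6 [2, 56, 6, 72, 39, 39, 52, 55, 61, 78, 63, 72])) (.mg [2] []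
 (.lf 7 [12, 72, 44, 85, 56, 64, 66, 61, 79, 70, 83])) (.mg [3] []
 (.lf 7 [79, 10, 2, 53, 42, 51, 51, 74, 62, 76, 73, 78]))) (.br (.mg [19] []
 (.lf 8 [7, 5, 72, 43, 82, 52, 68, 67, 85, 70, 79])) (.mg [2] []
 (.lf 7 [15, 12, 2, 62, 47, 73, 55, 68, 60, 76, 73, 80])) (.mg [3] []
 (.lf 7 [61, 10, 2, 71, 51, 39, 70, 59, 76, 63, 77, 80]))) (.br (.mg [18] []
 (.lf 11 [73, 10, 2, 67, 41, 38, 64, 52, 66, 62, 73, 81])) (.mg [2] []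
 (.lf 7 [12, 76, 3, 68, 45, 60, 51, 78, 62, 76, 82])) (.mg [3] []
 (.lf 7 [38, 2, 40, 45, 64, 51, 63, 76, 60, 78]))))) (.br (.br (.br (.mg [22] []
 (.lf 3 [44, 6, 4, 71, 43, 53, 53, 68, 67, 73, 73])) (.mg [2] []
 (.lf 7 [84, 11, 2, 40, 76, 38, 68, 53, 72, 66, 76])) (.mg [3] []
 (.lf 7 [76, 3, 59, 41, 64, 51, 61, 62, 60, 77]))) (.br (.mg [19] []
 (.lf 8 [4, 65, 3, 65, 46, 55, 73, 60, 60, 81])) (.mg [2] []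
 (.lf 7 [12, 47, 2, 62, 40, 69, 56, 66, 63, 77, 85])) (.mg [3] []
 (.lf 7 [11, 57, 3, 42, 39, 39, 84, 52, 64, 85, 70, 79]))) (.br (.mg [18] []
 (.lf 10 [66, 14, 72, 38, 78, 56, 75, 66, 76, 71, 78])) (.mg [2] []
 (.lf 7 [7, 39, 82, 38, 70, 59, 69, 73, 81])) (.mg [3] []
 (.lf 7 [77, 10, 3, 72, 47, 83, 52, 70, 66, 76, 73, 73, 83])))) (.br (.br (.mg [20] []
 (.lf 10 [4, 73, 2, 82, 47, 78, 59, 61, 66, 72, 72, 70])) (.mg [2] []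
 (.lf 7 [76, 2, 66, 49, 55, 51, 77, 69, 77, 70, 83])) (.mg [3] []
 (.lf 7 [54, 7, 4, 68, 45, 55, 53, 66, 60, 73]))) (.br (.mg [19] []
 (.lf 7 [69, 10, 3, 43, 38, 38, 52, 66, 85, 73, 70, 85])) (.mg [2] []
 (.lf 12 [77, 10, 3, 57, 41, 38, 52, 54, 65, 60, 82])) (.mg [3] []
 (.lf 12 [49, 38, 58, 70, 63, 72]))) (.br (.mg [18] []
 (.lf 12 [72, 41, 69, 53, 65, 63, 73, 78])) (.mg [2] []
 (.lf 10 [14, 12, 43, 39, 78, 56, 68, 61, 73, 71])) (.mg [3] []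
 (.lf 10 [60, 10, 59, 61, 38, 81, 53, 63, 60, 73, 81])))) (.br (.br (.mg [21] []
 (.lf 8 [79, 11, 2, 81, 38, 38, 64, 52, 72, 66, 72])) (.mg [2] []
 (.lf 7 [7, 4, 47, 66, 38, 52, 76, 60, 78, 73, 70, 83])) (.mg [3] []
 (.lf 7 [14, 13, 2, 62, 44, 64, 51, 72, 66, 72, 72, 80]))) (.br (.mg [19] []
 (.lf 12 [4, 54, 2, 42, 64, 51, 75, 69, 76, 73, 73, 79])) (.mg [2] []
 (.lf 8 [14, 13, 2, 44, 43, 59, 70, 66, 60, 85, 70])) (.mg [3] []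
 (.lf 8 [12, 3, 75, 40, 57, 52, 65, 66, 77, 70, 82]))) (.br (.mg [18] []
 (.lf 7 [14, 60, 5, 45, 41, 54, 63, 68, 72, 85])) (.mg [2] []
 (.lf 12 [4, 76, 3, 41, 39, 59, 52, 68, 64, 73, 73])) (.mg [3] []
 (.lf 12 [13, 2, 39, 48, 58, 52, 65, 60, 85, 70, 85]))))) (.br (.br (.br (.mg [23] []
 (.lf 4 [2, 45, 3, 72, 38, 69, 54, 64, 71, 80])) (.mg [2] []
 (.lf 7 [14, 13, 2, 55, 42, 59, 54, 80, 60, 79, 70, 78])) (.mg [3] []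
 (.lf 7 [3, 59, 38, 38, 57, 65, 60, 60, 76, 79]))) (.br (.mg [19] []
 (.lf 9 [57, 2, 49, 42, 60, 54, 82, 68, 60, 72])) (.mg [2] []
 (.lf 7 [67, 10, 60, 38, 57, 66, 62, 78, 73, 70, 83])) (.mg [3] []
 (.lf 7 [61, 5, 76, 53, 38, 68, 50, 76, 66, 70, 78]))) (.br (.mg [18] []
 (.lf 11 [75, 7, 42, 48, 38, 54, 62, 85, 73, 70, 80])) (.mg [2] []
 (.lf 7 [77, 10, 3, 61, 42, 67, 52, 70, 63, 71, 84])) (.mg [3] []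
 (.lf 7 [60, 2, 64, 38, 50, 65, 60, 72, 72, 80])))) (.br (.br (.mg [20] []
 (.lf 9 [13, 6, 2, 74, 43, 57, 52, 65, 61, 79, 76, 81])) (.mg [2] []
 (.lf 7 [78, 2, 46, 70, 58, 68, 66, 73, 71, 84])) (.mg [3] []
 (.lf 7 [4, 43, 50, 38, 56, 54, 73, 65, 60, 71, 80]))) (.br (.mg [19] []
 (.lf 12 [14, 3, 58, 46, 55, 85, 66, 82, 70])) (.mg [2] []
 (.lf 9 [69, 10, 3, 51, 48, 80, 52, 68, 80, 60, 73, 73, 85])) (.mg [3] []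
 (.lf 9 [14, 84, 38, 65, 53, 71, 65, 60, 73, 73, 80]))) (.br (.mg [18] []
 (.lf 7 [14, 60, 5, 52, 41, 65, 50, 61, 61, 70])) (.mg [2] []
 (.lf 12 [69, 10, 2, 79, 43, 57, 52, 60, 68, 62, 78])) (.mg [3] []
 (.lf 12 [3, 82, 45, 60, 54, 62, 72, 78])))) (.br (.br (.mg [21] []
 (.lf 11 [70, 5, 42, 41, 59, 54, 71, 60, 63, 73, 82])) (.mg [2] []
 (.lf 7 [12, 6, 3, 82, 41, 67, 61, 85, 73, 70, 85])) (.mg [3] []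
 (.lf 7 [38, 4, 43, 54, 39, 56, 55, 62, 68, 79, 76]))) (.br (.mg [19] []
 (.lf 7 [14, 4, 72, 51, 40, 60, 51, 63, 69, 61, 73, 83])) (.mg [2] []
 (.lf 12 [12, 76, 3, 38, 51, 38, 68, 52, 66, 60, 71, 79])) (.mg [3] []
 (.lf 12 [60, 2, 42, 58, 38, 62, 55, 50, 68, 61, 76, 78]))) (.br (.mg [18] []
 (.lf 12 [6, 61, 5, 73, 40, 61, 73, 71, 83])) (.mg [2] []
 (.lf 11 [5, 54, 2, 50, 44, 55, 77, 77, 81])) (.mg [3] []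
 (.lf 11 [14, 12, 2, 52, 85, 38, 59, 52, 65, 61, 70, 85])))))))))) (by decide +kernel)

theorem tr13 : CT.ClW e ns LL reps [2, 18, 20, 22, 24, 26, 28, 30, 32] [6] :=
  CT.clW_of mo hE hqs (t := (.br (.br (.br (.mg [2] []
 (.br (.mg [18] []
 (.mg [21] []
 (.mg [25] []
 (.br (.lf 0 [2, 57, 2, 47, 44, 64, 53, 78, 66, 82, 70, 79]) (.lf 4 [57, 14, 57, 44, 55, 53, 65, 62, 71, 76, 84]) (.lf 3 [84, 42, 2, 50, 42, 59, 52, 65, 66, 77, 73, 83]))))) (.mg [18] []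
 (.mg [21] []
 (.mg [6] []
 (.mg [22] []
 (.lf 7 [48, 7, 74, 44, 39, 74, 55, 74, 60, 77, 70, 80]))))) (.mg [18] []
 (.mg [21] []
 (.mg [7] []
 (.mg [23] []
 (.lf 7 [55, 14, 74, 43, 38, 68, 53, 66, 64, 79, 76, 80]))))))) (.mg [2] []
 (.mg [0] []
 (.mg [18] [33]
 (.mg [6] []
 (.mg [25] []
 (.mg [27] []
 (.lf 7 [47, 4, 2, 70, 45, 40, 82, 50, 71, 62, 73, 83]))))))) (.mg [2] []
 (.mg [1] []
 (.mg [18] [32]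
 (.mg [7] []
 (.mg [25] []
 (.mg [26] []
 (.lf 7 [49, 12, 42, 46, 70, 53, 78, 64, 60, 76, 71, 85])))))))) (.br (.mg [2] []
 (.mg [5] []
 (.mg [7] []
 (.mg [21] [32]
 (.mg [25] []
 (.mg [28] []
 (.lf 7 [78, 5, 60, 43, 57, 52, 63, 68, 72, 72, 79]))))))) (.mg [2] []
 (.mg [0] []
 (.mg [18] [33]
 (.mg [21] [32]
 (.mg [25] []
 (.mg [27] []
 (.nt 50))))))) (.mg [2] []
 (.mg [1] []
 (.mg [18] [32]
 (.mg [21] [32]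
 (.mg [25] []
 (.mg [26] []
 (.nt 50)))))))) (.br (.mg [2] []
 (.mg [4] []
 (.mg [6] []
 (.mg [21] [33]
 (.mg [25] []
 (.mg [29] []
 (.lf 7 [11, 47, 78, 59, 72, 66, 60, 71, 72, 79]))))))) (.mg [2] []
 (.mg [0] []
 (.mg [18] [33]
 (.mg [21] [33]
 (.mg [25] []
 (.mg [27] []
 (.nt 50))))))) (.mg [2] []
 (.mg [1] []
 (.mg [18] [32]
 (.mg [21] [33]
 (.mg [25] []
 (.mg [26] []
 (.nt 50))))))))) (.mg [0] []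
 (.mg [5] []
 (.mg [7] []
 (.br (.mg [18] []
 (.mg [21] []
 (.mg [25] [33]
 (.mg [31] []
 (.lf 7 [11, 62, 3, 42, 50, 64, 67, 81]))))) (.mg [18] []
 (.mg [21] []
 (.mg [25] [33]
 (.mg [22] []
 (.nt 50))))) (.mg [18] []
 (.mg [21] []
 (.mg [25] [33]
 (.mg [23] []
 (.nt 50))))))))) (.mg [1] []
 (.mg [4] []
 (.mg [6] []
 (.br (.mg [18] []
 (.mg [21] []
 (.mg [25] [32]
 (.mg [30] []
 (.lf 7 [5, 58, 7, 52, 40, 54, 71, 60, 63, 71]))))) (.mg [18] []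
 (.mg [21] []
 (.mg [25] [32]
 (.mg [22] []
 (.nt 50))))) (.mg [18] []
 (.mg [21] []
 (.mg [25] [32]
 (.mg [23] []
 (.nt 50))))))))))) (by decide +kernel)

end Cfsg.Agent.O83
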